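import Cfsg.Agent.Lib.Bender.Suzuki.Consumers
import Cfsg.Agent.Lib.PGroup.Subnormalizer
import Cfsg.Agent.Lib.Coprime.Core
import Cfsg.Prelude.Def_CaseTheorems

/-!
# One class of maximal 2-local subgroups

If all maximal 2-locals of a simple group are conjugate, a nontrivial 2-subgroup lies in only one of them:
a maximal counterexample `T` is either a Sylow group, and then they are conjugate under `N(T)`, or grows
inside `N(T)`.  So a maximal 2-local is strongly embedded.
-/

set_option autoImplicit false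
set_option linter.style.haveILetI false
set_option linter.unusedSectionVars false

namespace CfsgLib.Bender.OneLocalClass

open Subgroup CfsgLib.Invol
open scoped Pointwise

universe u

variable {G : Type u} [Group G] [Finite G]

theorem exists_max_of_twoGroup {T : Subgroup G} (hT : IsPGroup 2 T) (hne : T ≠ ⊥) :
    ∃ M, Cfsg.IsMaximalTwoLocal M ∧ normalizer (T : Set G) ≤ M := by
  obtain ⟨M, ⟨hl, hle⟩, hmax⟩ :=
    Set.Finite.exists_maximal (s := {N : Subgroup G | Cfsg.IsTwoLocal N ∧ normalizer (T : Set G) ≤ N})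
      (Set.toFinite _) ⟨_, ⟨T, hT, hne, rfl⟩, le_rfl⟩
  exact ⟨M, ⟨hl, fun N hN h => le_antisymm (hmax ⟨hN, hle.trans h⟩ h) h⟩, hle⟩

theorem mem_map_conj {M : Subgroup G} {g x : G} :
    x ∈ M.map (MulAut.conj g).toMonoidHom ↔ g⁻¹ * x * g ∈ M := by
  rw [Subgroup.mem_map_equiv, MulAut.conj_symm_apply]

theorem isTwoLocal_map {N : Subgroup G} (h : Cfsg.IsTwoLocal N) (e : G ≃* G) :
    Cfsg.IsTwoLocal (N.map e.toMonoidHom) := by
  obtain ⟨T, hT, hne, rfl⟩ := h
  exact ⟨T.map e.toMonoidHom, hT.map _, fun h => hne ((map_eq_bot_iff_of_injective _ e.injective).1 h),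
    map_equiv_normalizer_eq T e⟩

theorem isMaximal_map {M : Subgroup G} (h : Cfsg.IsMaximalTwoLocal M) (e : G ≃* G) :
    Cfsg.IsMaximalTwoLocal (M.map e.toMonoidHom) := by
  refine ⟨isTwoLocal_map h.1 e, fun N hN hle => ?_⟩
  have hNe : (N.map e.symm.toMonoidHom).map e.toMonoidHom = N := by
    ext x
    simp [Subgroup.mem_map_equiv]
  have h1 := h.2 _ (isTwoLocal_map hN e.symm) (fun x hx => by
    rw [Subgroup.mem_map_equiv, MulEquiv.symm_symm]
    exact hle (mem_map_of_mem _ hx))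
  rw [← hNe, h1]

/-- A maximal 2-local is its own normalizer, if that is proper. -/
theorem mem_of_normalizes {M : Subgroup G} (hM : Cfsg.IsMaximalTwoLocal M) {g : G}
    (hg : g ∈ normalizer (M : Set G)) : g ∈ M := by
  obtain ⟨⟨T₀, hT₀, hne, hMT⟩, hmax⟩ := hM
  have hT₀M : T₀ ≤ M := hMT ▸ le_normalizer
  haveI : (T₀.subgroupOf M).Normal := (normal_subgroupOf_iff_le_normalizer hT₀M).2 hMT.le
  set R := (Cfsg.pCore 2 M).map M.subtype with hR
  have hT₀R : T₀ ≤ R := fun t ht => mem_map.2 ⟨⟨t, hT₀M ht⟩,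
    (CfsgLib.Coprime.le_pCore (N := T₀.subgroupOf M)
      (hT₀.comap_of_injective M.subtype M.subtype_injective)) ht, rfl⟩
  have hconj : ∀ k ∈ normalizer (M : Set G), ∀ r ∈ R, k * r * k⁻¹ ∈ R := by
    rintro k hk _ ⟨r, hr, rfl⟩
    haveI := CfsgLib.Coprime.pCore_characteristic (G := M) 2
    have h1 := (characteristic_iff_map_le.1 (inferInstance : (Cfsg.pCore 2 M).Characteristic))
      (M.normalizerMonoidHom ⟨k, hk⟩) (mem_map_of_mem _ hr)
    exact mem_map.2 ⟨_, h1, rfl⟩
  have hle : normalizer (M : Set G) ≤ normalizer (R : Set G) := fun k hk =>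
    mem_normalizer_iff.2 fun r => ⟨hconj k hk r, fun hr => by
      have h2 := hconj k⁻¹ (inv_mem hk) _ hr
      rwa [show k⁻¹ * (k * r * k⁻¹) * k⁻¹⁻¹ = r by group] at h2⟩
  have heq := hmax _ ⟨R, (CfsgLib.Coprime.pCore_isPGroup 2).map _, fun e => hne (le_bot_iff.1 (e ▸ hT₀R)), rfl⟩
    (le_normalizer.trans hle)
  exact heq ▸ hle hg

variable (h1 : ∀ M M' : Subgroup G, Cfsg.IsMaximalTwoLocal M → Cfsg.IsMaximalTwoLocal M' →
  ∃ g : G, M' = M.map (MulAut.conj g).toMonoidHom)
include h1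

/-- The maximal 2-locals above a Sylow group contain its normalizer's. -/
theorem eq_of_sylow {L M : Subgroup G} (hL : Cfsg.IsMaximalTwoLocal L) (hM : Cfsg.IsMaximalTwoLocal M)
    (S : Sylow 2 G) (hSL : normalizer ((S : Subgroup G) : Set G) ≤ L) (hSM : (S : Subgroup G) ≤ M) : M = L := by
  obtain ⟨g, hg⟩ := h1 L M hL hM
  have hS' : (((g⁻¹ : G) • S : Sylow 2 G) : Subgroup G) ≤ L := by
    intro x hx
    rw [Sylow.coe_subgroup_smul, mem_pointwise_smul_iff_inv_smul_mem] at hx
    have h2 : g * x * g⁻¹ ∈ (S : Subgroup G) := by simpa [MulAut.smul_def] using hx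
    have h3 := mem_map_conj.1 (hg ▸ hSM h2)
    rwa [show g⁻¹ * (g * x * g⁻¹) * g = x by group] at h3
  haveI : Fact (Nat.Prime 2) := ⟨Nat.prime_two⟩
  have hSL' : (S : Subgroup G) ≤ L := le_normalizer.trans hSL
  obtain ⟨l, hl⟩ := MulAction.exists_smul_eq L (((g⁻¹ : G) • S).subtype hS') (S.subtype hSL')
  rw [Sylow.smul_subtype] at hl
  have h4 : ((l : G) * g⁻¹) • S = S := by
    rw [mul_smul]; exact Sylow.subtype_injective hl
  have h5 : (l : G) * g⁻¹ ∈ L := hSL (Sylow.smul_eq_iff_mem_normalizer.1 h4)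
  have h6 : g ∈ L := by
    have h7 := mul_mem (inv_mem h5) l.2
    simpa using h7
  rw [hg]
  ext x
  rw [mem_map_conj, L.mul_mem_cancel_right h6, L.mul_mem_cancel_left (inv_mem h6)]

/-- A nontrivial 2-subgroup lies in only one maximal 2-local. -/
theorem eq_of_le_of_le : ∀ (n : ℕ) (T : Subgroup G), Nat.card G - Nat.card T = n → IsPGroup 2 T → T ≠ ⊥ →
    ∀ M₁ M₂ : Subgroup G, Cfsg.IsMaximalTwoLocal M₁ → Cfsg.IsMaximalTwoLocal M₂ → T ≤ M₁ → T ≤ M₂ → M₁ = M₂ := by
  haveI : Fact (Nat.Prime 2) := ⟨Nat.prime_two⟩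
  intro n
  induction n using Nat.strong_induction_on with
  | _ n ih =>
    intro T hn hT hne M₁ M₂ hM₁ hM₂ h₁ h₂
    obtain ⟨L, hL, hTL⟩ := exists_max_of_twoGroup hT hne
    suffices key : ∀ M, Cfsg.IsMaximalTwoLocal M → T ≤ M → M = L by rw [key M₁ hM₁ h₁, key M₂ hM₂ h₂]
    intro M hM hTM
    obtain ⟨S, hS⟩ := (hT.comap_of_injective M.subtype M.subtype_injective).exists_le_sylow
    set U := (S : Subgroup M).map M.subtype with hU
    have hTU : T ≤ U := fun t ht => mem_map.2 ⟨⟨t, hTM ht⟩, hS ht, rfl⟩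
    rcases eq_or_lt_of_le hTU with he | hlt
    · -- `T` is a Sylow group of `M`, so of `G`
      obtain ⟨S₀⟩ := (inferInstance : Nonempty (Sylow 2 G))
      obtain ⟨S', hS'⟩ := hT.exists_le_sylow
      have hS'ne : (S' : Subgroup G) ≠ ⊥ := fun e => hne (le_bot_iff.1 (e ▸ hS'))
      obtain ⟨L', hL', hS'L'⟩ := exists_max_of_twoGroup S'.isPGroup' hS'ne
      obtain ⟨g, hg⟩ := h1 L' M hL' hM
      have h2 : ((S' : Subgroup G).map (MulAut.conj g).toMonoidHom) ≤ M := hg ▸ map_mono (le_normalizer.trans hS'L')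
      have h3 := S.card_eq_multiplicity
      obtain ⟨P, hP⟩ := ((S'.isPGroup'.map (MulAut.conj g).toMonoidHom).comap_of_injective M.subtype
        M.subtype_injective).exists_le_sylow
      have h4 : Nat.card (S' : Subgroup G) ≤ Nat.card T := by
        calc Nat.card (S' : Subgroup G) = Nat.card ((S' : Subgroup G).map (MulAut.conj g).toMonoidHom) :=
              (card_map_of_injective (MulAut.conj g).injective).symm
          _ = Nat.card (((S' : Subgroup G).map (MulAut.conj g).toMonoidHom).subgroupOf M) :=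
              (Nat.card_congr (subgroupOfEquivOfLe h2).toEquiv).symm
          _ ≤ Nat.card (P : Subgroup M) := card_le_of_le hP
          _ = Nat.card (S : Subgroup M) := by rw [P.card_eq_multiplicity, h3]
          _ = Nat.card T := by rw [he, hU, card_map_of_injective M.subtype_injective]
      have h5 : T = (S' : Subgroup G) := eq_of_le_of_card_ge hS' h4
      exact eq_of_sylow h1 hL hM S' (h5 ▸ hTL) (h5 ▸ hTM)
    · have h2 := CfsgLib.Subnormalizer.lt_inf_normalizer (S.isPGroup'.map _) hlt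
      have hne' : U ⊓ normalizer (T : Set G) ≠ ⊥ := fun e => hne (le_bot_iff.1 (e ▸ h2.le))
      refine ih _ ?_ _ rfl ((S.isPGroup'.map _).to_le inf_le_left) hne' M L hM hL
        (inf_le_left.trans (map_subtype_le _)) (inf_le_right.trans hTL)
      have h5 : Nat.card T < Nat.card (U ⊓ normalizer (T : Set G) : Subgroup G) := by
        rw [← SetLike.coe_sort_coe, ← SetLike.coe_sort_coe, Nat.card_coe_set_eq, Nat.card_coe_set_eq]
        exact Set.ncard_lt_ncard h2 (Set.toFinite _)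
      have h6 := card_le_card_group (U ⊓ normalizer (T : Set G))
      rw [hU] at h5 h6
      omega

/-- **A simple group with one class of maximal 2-locals has a strongly embedded subgroup.** -/
theorem exists_stronglyEmbedded [IsSimpleGroup G] (hG : ¬ IsMulCommutative G) :
    ∃ H : Subgroup G, Cfsg.IsStronglyEmbedded H := by
  haveI : Fact (Nat.Prime 2) := ⟨Nat.prime_two⟩
  obtain ⟨z, hz⟩ := exists_prime_orderOf_dvd_card' 2 (CfsgLib.CIT.two_dvd_card_of_simple hG)
  have hpz : ∀ t : G, orderOf t = 2 → IsPGroup 2 (zpowers t) := fun t ht =>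
    IsPGroup.of_card (n := 1) (by rw [Nat.card_zpowers, ht, pow_one])
  have hne : ∀ t : G, orderOf t = 2 → zpowers t ≠ ⊥ := fun t ht e => invol_ne_one ht (zpowers_eq_bot.1 e)
  obtain ⟨M, hM, hzM⟩ := exists_max_of_twoGroup (hpz z hz) (hne z hz)
  have hzM' : z ∈ M := hzM (le_normalizer (mem_zpowers z))
  have hMtop : M ≠ ⊤ := by
    intro e
    obtain ⟨T₀, hT₀, hT₀ne, hMT⟩ := hM.1
    haveI : T₀.Normal := normalizer_eq_top_iff.1 (hMT.symm.trans e)
    rcases (inferInstance : T₀.Normal).eq_bot_or_eq_top with h | h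
    · exact hT₀ne h
    · have hGp : IsPGroup 2 G := (h ▸ hT₀).of_equiv Subgroup.topEquiv
      haveI := hGp.isNilpotent
      exact CfsgLib.CIT.nsolv_of_simple hG inferInstance
  refine ⟨M, (stronglyEmbedded_iff hMtop (even_iff_two_dvd.2 (hz ▸ orderOf_dvd_natCard _ hzM'))).2 ?_⟩
  intro t ht hto g hg
  have hM' := isMaximal_map hM (MulAut.conj g⁻¹)
  have h2 : M.map (MulAut.conj g⁻¹).toMonoidHom = M :=
    eq_of_le_of_le h1 _ (zpowers t) rfl (hpz t hto) (hne t hto) _ _ hM' hM
      (zpowers_le.2 (mem_map_conj.2 (by rwa [inv_inv]))) (zpowers_le.2 ht)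
  refine mem_of_normalizes hM (mem_normalizer_iff.2 fun x => ?_)
  conv_lhs => rw [← h2]
  rw [mem_map_conj, inv_inv]

end CfsgLib.Bender.OneLocalClass
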