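import Cfsg.Agent.Lib.Invol.EqualOrderConj.PslFour
import Cfsg.Agent.Lib.Invol.EqualOrderConj.Psl
import Cfsg.Agent.Lib.GW.FieldPart
import Cfsg.Agent.Lib.Invol.KleinPair
import Cfsg.Agent.Lib.Classical.SLBasic
import Mathlib.NumberTheory.LegendreSymbol.QuadraticChar.GaussSum

/-!
# `PSL(2, q)`, `q` odd, with abelian Sylow 2-subgroups

No nontrivial odd abelian subgroup is inverted by an involution and normalized by its centralizer;
2-automorphisms fixing a four-group are inner.
-/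

set_option autoImplicit false
set_option linter.unusedSectionVars false
set_option linter.style.haveILetI false

namespace CfsgLib.PslMax

open Matrix CfsgLib.OddProdPSL
open CfsgLib.EqConj (proj_eq_cases val_mul')

variable {F : Type} [Field F] [Fintype F]

local notation "SL2" => SpecialLinearGroup (Fin 2) F
local notation "PSL2" => ProjectiveSpecialLinearGroup (Fin 2) F
local notation "M2" => Matrix (Fin 2) (Fin 2) F

theorem mat_mul_self {N : SL2} (h : tr N = 0) : N.1 * N.1 = (-1 : M2) := by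
  have hd := det_eq N
  unfold tr at h
  ext i j
  fin_cases i <;> fin_cases j <;> simp [Matrix.mul_apply, Fin.sum_univ_two]
  · linear_combination (-1 : F) * hd + N.1 0 0 * h
  · linear_combination N.1 0 1 * h
  · linear_combination N.1 1 0 * h
  · linear_combination (-1 : F) * hd + N.1 1 1 * h

theorem inv_val (M : SL2) : (M⁻¹).1 = tr M • (1 : M2) - M.1 := by
  rw [show (M⁻¹ : SL2).1 = adjugate M.1 from rfl, adjugate_fin_two]
  ext i j
  fin_cases i <;> fin_cases j <;> simp [tr]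

theorem proj_sq_of_tr {M : SL2} (h : tr M = 0) : proj M * proj M = 1 := by
  rw [← map_mul, proj_eq_one_iff, val_mul', mat_mul_self h]
  simp

/-- A matrix commuting with a trace zero element is a combination of it and `1`. -/
theorem comb_of_commute (h2 : (2 : F) ≠ 0) {N : SL2} (hN : tr N = 0) {Y : M2}
    (h : Y * N.1 = N.1 * Y) : ∃ a l : F, Y = a • (1 : M2) + l • N.1 := by
  have hd := det_eq N
  unfold tr at hN
  have h00 := congrFun (congrFun h 0) 0
  have h01 := congrFun (congrFun h 0) 1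
  have h10 := congrFun (congrFun h 1) 0
  simp only [mul_apply, Fin.sum_univ_two] at h00 h01 h10
  set n := N.1 0 0 with hn
  set m := N.1 0 1 with hm
  set k := N.1 1 0 with hk
  set α := (Y 0 0 - Y 1 1) / 2 with hα
  have h2α : Y 0 0 - Y 1 1 = 2 * α := by rw [hα]; field_simp
  have e11 : N.1 1 1 = -n := by linear_combination hN
  rw [e11] at hd h01 h10
  have q1 : n * Y 0 1 = m * α := mul_left_cancel₀ h2 (by linear_combination (-1 : F) * h01 + m * h2α)
  have q2 : n * Y 1 0 = k * α := mul_left_cancel₀ h2 (by linear_combination h10 + k * h2α)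
  have q3 : m * Y 1 0 = k * Y 0 1 := by linear_combination (-1 : F) * h00
  clear_value α
  refine ⟨Y 0 0 - α, -(n * α + m * Y 1 0), ?_⟩
  ext i j
  fin_cases i <;> fin_cases j <;> simp [e11, ← hn, ← hm, ← hk]
  · linear_combination (-α) * hd + m * q2
  · linear_combination (-(Y 0 1)) * hd - n * q1 + m * q3
  · linear_combination (-(Y 1 0)) * hd - n * q2
  · linear_combination (-1 : F) * h2α + α * hd - m * q2

theorem two_ne (hodd : Odd (Fintype.card F)) : (2 : F) ≠ 0 :=
  CfsgLib.Perm.Dickson.two_ne_zero_of_odd (F := F) (by rwa [Nat.card_eq_fintype_card])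

theorem mat_ne_zero (N : SL2) : N.1 ≠ 0 := fun h => by
  have := N.2
  simp [h] at this

/-- Lifts of two commuting involutions anticommute. -/
theorem anticomm (h2 : (2 : F) ≠ 0) {N R : SL2} (hs : orderOf (proj N) = 2) (hr : orderOf (proj R) = 2)
    (hne : proj N ≠ proj R) (hc : proj N * proj R = proj R * proj N) :
    R.1 * N.1 = -(N.1 * R.1) := by
  rcases proj_eq_cases (A := R * N) (B := N * R) (by rw [map_mul, map_mul, hc]) with e | e <;>
    rw [val_mul', val_mul'] at e
  · exfalso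
    have h1 : orderOf (proj (N * R)) = 2 := by
      refine orderOf_eq_prime ?_ ?_
      · rw [map_mul, pow_two, mul_assoc, ← mul_assoc (proj R), ← hc, mul_assoc,
          CfsgLib.Invol.invol_mul_self hr, mul_one, CfsgLib.Invol.invol_mul_self hs]
      · rw [map_mul]
        intro h
        rw [mul_eq_one_iff_eq_inv, CfsgLib.Invol.invol_inv hr] at h
        exact hne h
    have h3 := mat_mul_self (tr_eq_zero _ h1)
    rw [val_mul', mul_assoc, ← mul_assoc R.1 N.1, e, mul_assoc, mat_mul_self (tr_eq_zero _ hr)] at h3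
    simp only [mul_neg, mul_one] at h3
    rw [mat_mul_self (tr_eq_zero _ hs)] at h3
    have h4 := congrFun (congrFun h3 0) 0
    simp at h4
    exact h2 (by linear_combination h4)
  · exact e

theorem eq_one_of_tr {A : Subgroup PSL2} (hA : Odd (Nat.card A)) {M : SL2} (hM : proj M ∈ A)
    (h : tr M = 0) : proj M = 1 := by
  have h1 := proj_sq_of_tr h
  have h2 : orderOf (proj M) ∣ 2 := orderOf_dvd_of_pow_eq_one (by rw [pow_two, h1])
  rcases (Nat.dvd_prime Nat.prime_two).1 h2 with e | e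
  · exact orderOf_eq_one_iff.1 e
  · have h3 := Subgroup.orderOf_dvd_natCard A hM
    rw [e] at h3
    exact absurd (even_iff_two_dvd.2 h3) (Nat.not_even_iff_odd.2 hA)

theorem tr_neg_conj (N M : SL2) : tr (N * M * N⁻¹) = tr M := by
  have h : ((N * M * N⁻¹ : SL2).1).trace = M.1.trace := by
    rw [val_mul', Matrix.trace_mul_comm, ← val_mul', ← mul_assoc, inv_mul_cancel, one_mul]
  simpa [Matrix.trace_fin_two, tr] using h

/-- An odd abelian subgroup inverted by an involution and normalized by the centralizer of the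
involution is trivial. -/
theorem eq_bot_of_inverted (hodd : Odd (Fintype.card F)) {s r : PSL2} (hs : orderOf s = 2)
    (hr : orderOf r = 2) (hne : s ≠ r) (hsr : s * r = r * s) (A : Subgroup PSL2)
    (hA : Odd (Nat.card A)) (hab : ∀ a ∈ A, ∀ b ∈ A, a * b = b * a)
    (hinv : ∀ a ∈ A, s * a * s⁻¹ = a⁻¹)
    (hn : ∀ w, w * s = s * w → ∀ a ∈ A, w * a * w⁻¹ ∈ A) : A = ⊥ := by
  have h2 := two_ne hodd
  obtain ⟨N, rfl⟩ := proj_surjective s
  obtain ⟨R, rfl⟩ := proj_surjective r
  have hNN := mat_mul_self (tr_eq_zero _ hs)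
  have hRR := mat_mul_self (tr_eq_zero _ hr)
  have hRN := anticomm h2 hs hr hne hsr
  have hN0 : N.1 ≠ 0 := mat_ne_zero N
  -- lifts of two elements of `A` commute
  have hcomm : ∀ M M' : SL2, proj M ∈ A → proj M' ∈ A → proj M' ≠ 1 → M.1 * M'.1 = M'.1 * M.1 := by
    intro M M' hM hM' h1
    rcases proj_eq_cases (A := M * M') (B := M' * M)
      (by rw [map_mul, map_mul, hab _ hM _ hM']) with e | e <;> rw [val_mul', val_mul'] at e
    · exact e
    · exfalso
      refine h1 (eq_one_of_tr hA hM' ?_)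
      have h3 : (M * M' * M⁻¹ : SL2).1 = -M'.1 := by
        rw [val_mul', val_mul', e, neg_mul, mul_assoc, ← val_mul', mul_inv_cancel,
          Matrix.SpecialLinearGroup.coe_one, mul_one]
      have h4 := tr_neg_conj M M'
      unfold tr at h4 ⊢
      rw [h3] at h4
      simp only [Matrix.neg_apply] at h4
      exact mul_left_cancel₀ h2 (by linear_combination (-1 : F) * h4)
  refine (Subgroup.eq_bot_iff_forall _).2 fun a ha => ?_
  by_contra ha1
  obtain ⟨M, rfl⟩ := proj_surjective a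
  -- `N` inverts the lift
  have hNM : N.1 * M.1 = (tr M • (1 : M2) - M.1) * N.1 := by
    rcases proj_eq_cases (A := N * M * N⁻¹) (B := M⁻¹)
      (by rw [map_mul, map_mul, map_inv, map_inv]; exact hinv _ ha) with e | e
    · rw [← inv_val, ← e]
      exact congrArg Subtype.val (show N * M = N * M * N⁻¹ * N from (inv_mul_cancel_right _ _).symm)
    · exfalso
      refine ha1 (eq_one_of_tr hA ha ?_)
      have h4 := tr_neg_conj N M
      unfold tr at h4 ⊢
      rw [e] at h4
      simp only [Matrix.neg_apply, inv_val, tr, Matrix.sub_apply, Matrix.smul_apply, Matrix.one_apply_eq,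
        smul_eq_mul, mul_one] at h4
      exact mul_left_cancel₀ h2 (by linear_combination (-1 : F) * h4)
  obtain ⟨α, hα⟩ : ∃ α : F, tr M = 2 * α := ⟨tr M / 2, by field_simp⟩
  obtain ⟨X, hX⟩ : ∃ X : M2, M.1 = α • (1 : M2) + X := ⟨M.1 - α • (1 : M2), by abel⟩
  have hNX : N.1 * X = -(X * N.1) := by
    rw [hX, hα] at hNM
    simp only [mul_add, add_mul, sub_mul, smul_mul_assoc, mul_smul_comm, one_mul, mul_one] at hNM
    linear_combination (norm := module) hNM
  obtain ⟨a₀, l, hY⟩ := comb_of_commute h2 (tr_eq_zero _ hs) (Y := R.1 * X) (by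
    rw [mul_assoc, eq_neg_iff_add_eq_zero.1 hNX |> eq_neg_of_add_eq_zero_right, mul_neg, ← mul_assoc, hRN]
    simp [mul_assoc])
  have hX' : X = (-a₀) • R.1 + (-l) • (R.1 * N.1) := by
    have h := congrArg (R.1 * ·) hY
    simp only [← mul_assoc, hRR, neg_mul, one_mul, mul_add, mul_smul_comm, mul_one] at h
    linear_combination (norm := module) (-1 : F) • h
  have hMα : M.1 = α • (1 : M2) + (-a₀) • R.1 + (-l) • (R.1 * N.1) := by rw [hX, hX', add_assoc]
  generalize -a₀ = β at hMα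
  generalize -l = γ at hMα
  -- conjugating by `R`
  have hb : proj (R * M * R⁻¹) ∈ A := by
    rw [map_mul, map_mul, map_inv]
    exact hn _ hsr.symm _ ha
  have hRi : (R⁻¹).1 = -R.1 := by rw [inv_val, tr_eq_zero _ hr, zero_smul, zero_sub]
  have hRM : (R * M * R⁻¹ : SL2).1 = α • (1 : M2) + β • R.1 + (-γ) • (R.1 * N.1) := by
    rw [val_mul', val_mul', hRi, hMα]
    simp only [mul_add, add_mul, smul_mul_assoc, mul_smul_comm, mul_one, mul_neg, neg_mul, hRR,
      ← mul_assoc, one_mul, smul_neg, neg_smul, neg_neg]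
    rw [show N.1 * R.1 = -(R.1 * N.1) by rw [hRN, neg_neg]]
    module
  have hRNR : R.1 * N.1 * R.1 = N.1 := by
    rw [hRN, neg_mul, mul_assoc, hRR, mul_neg, mul_one, neg_neg]
  have hc := hcomm M (R * M * R⁻¹) ha hb (fun h => ha1 (by
    rwa [map_mul, map_mul, map_inv, conj_eq_one_iff] at h))
  have hβγ : β * γ = 0 := by
    rw [hRM, hMα] at hc
    simp only [mul_add, add_mul, smul_mul_assoc, mul_smul_comm, mul_one, one_mul, ← mul_assoc, hRR,
      hRNR, hNN, neg_mul, mul_neg, smul_neg, neg_smul, neg_neg, smul_smul] at hc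
    have h4 : (4 * (β * γ)) • N.1 = 0 := by linear_combination (norm := module) hc
    rcases smul_eq_zero.1 h4 with h | h
    · exact (mul_eq_zero.1 h).resolve_left (by
        rw [show (4 : F) = 2 * 2 by norm_num]; exact mul_ne_zero h2 h2)
    · exact absurd h hN0
  -- one anticommuting square root of `-1`
  obtain ⟨δ, R', hR', hNR', hMR⟩ : ∃ (δ : F) (R' : M2), R' * R' = -1 ∧ R' * N.1 = -(N.1 * R') ∧
      M.1 = α • (1 : M2) + δ • R' := by
    rcases mul_eq_zero.1 hβγ with h | h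
    · refine ⟨γ, R.1 * N.1, ?_, ?_, ?_⟩
      · rw [← mul_assoc, hRNR, hNN]
      · rw [← mul_assoc, hRN, neg_mul]
      · rw [hMα, h, zero_smul, add_zero]
    · exact ⟨β, R.1, hRR, hRN, by rw [hMα, h, zero_smul, add_zero]⟩
  have hαδ : α * α + δ * δ = 1 := by
    have h := congrArg Subtype.val (mul_inv_cancel M)
    rw [val_mul', inv_val, hα, hMR, Matrix.SpecialLinearGroup.coe_one] at h
    simp only [mul_add, add_mul, mul_sub, smul_mul_assoc, mul_smul_comm, mul_one, one_mul, hR', smul_neg,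
      smul_smul] at h
    have h5 : (α * α + δ * δ) • (1 : M2) = (1 : F) • (1 : M2) := by
      linear_combination (norm := module) h
    simpa using congrFun (congrFun h5 0) 0
  -- an element of the centralizer of `N`
  have hdet : (α • (1 : M2) + δ • N.1).det = 1 := by
    have hd := det_eq N
    have ht := tr_eq_zero _ hs
    unfold tr at ht
    rw [det_fin_two]
    simp
    linear_combination hαδ + δ * δ * hd + α * δ * ht
  obtain ⟨W, hW⟩ : ∃ W : SL2, W.1 = α • (1 : M2) + δ • N.1 := ⟨⟨_, hdet⟩, rfl⟩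
  have hWN : proj W * proj N = proj N * proj W := by
    rw [← map_mul, ← map_mul]
    refine congrArg proj (Subtype.ext ?_)
    rw [val_mul', val_mul', hW]
    simp [mul_add, add_mul]
  have hd : proj (W * M * W⁻¹) ∈ A := by
    rw [map_mul, map_mul, map_inv]
    exact hn _ hWN _ ha
  have hWi : (W⁻¹).1 = α • (1 : M2) - δ • N.1 := by
    rw [inv_val, hW]
    have ht := tr_eq_zero _ hs
    unfold tr at ht ⊢
    rw [hW]
    simp only [Matrix.add_apply, Matrix.smul_apply, Matrix.one_apply_eq, smul_eq_mul, mul_one]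
    rw [show α + δ * N.1 0 0 + (α + δ * N.1 1 1) = 2 * α by linear_combination δ * ht]
    module
  have hNR2 : R' * N.1 * R' = N.1 := by
    rw [hNR', neg_mul, mul_assoc, hR', mul_neg, mul_one, neg_neg]
  have hc2 := hcomm M (W * M * W⁻¹) ha hd (fun h => ha1 (by
    rwa [map_mul, map_mul, map_inv, conj_eq_one_iff] at h))
  have hNR'' : N.1 * R' * R' = -N.1 := by rw [mul_assoc, hR', mul_neg, mul_one]
  have hNR3 : N.1 * R' * N.1 = R' := by
    rw [mul_assoc, hNR', mul_neg, ← mul_assoc, hNN, neg_mul, one_mul, neg_neg]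
  have hWM : (W * M * W⁻¹ : SL2).1 = (α * (α * α + δ * δ)) • (1 : M2) +
      (δ * (α * α - δ * δ)) • R' + (2 * α * δ * δ) • (N.1 * R') := by
    rw [val_mul', val_mul', hW, hWi, hMR]
    simp only [mul_add, add_mul, mul_sub, sub_mul, smul_mul_assoc, mul_smul_comm, mul_one, one_mul,
      hNR3, hNR', hNN, smul_neg, smul_smul]
    module
  have hR'NR : R' * (N.1 * R') = N.1 := by rw [← mul_assoc, hNR2]
  have key : (4 * (α * δ * δ * δ)) • N.1 = 0 := by
    rw [hWM, hMR] at hc2
    simp only [mul_add, add_mul, smul_mul_assoc, mul_smul_comm, mul_one, one_mul, hR', hR'NR, hNR'',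
      smul_neg, smul_smul] at hc2
    linear_combination (norm := module) hc2
  rcases smul_eq_zero.1 key with h | h
  swap
  · exact hN0 h
  have h4 : (4 : F) ≠ 0 := by rw [show (4 : F) = 2 * 2 by norm_num]; exact mul_ne_zero h2 h2
  have h0 : α = 0 ∨ δ = 0 := by simpa [mul_eq_zero, h4, or_assoc] using h
  rcases h0 with h0 | h0
  · exact ha1 (eq_one_of_tr hA ha (by rw [hα, h0, mul_zero]))
  · refine ha1 ((proj_eq_one_iff M).2 ?_)
    rw [hMR, h0]
    simp

/-- An abelian Sylow 2-subgroup contains two commuting involutions. -/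
theorem exists_four_mem (hodd : Odd (Fintype.card F)) (P : Sylow 2 PSL2) :
    ∃ a b, a ∈ (P : Subgroup PSL2) ∧ b ∈ (P : Subgroup PSL2) ∧ orderOf a = 2 ∧ orderOf b = 2 ∧ a ≠ b ∧
      a * b = b * a := by
  haveI : Fact (Nat.Prime 2) := ⟨Nat.prime_two⟩
  obtain ⟨a, b, ha, hb, hne, hab, -, -⟩ := CfsgLib.GW.exists_fixed_four (two_ne hodd) (1 : RingAut F)
  haveI hK : IsKleinFour (Subgroup.closure {a, b}) := CfsgLib.Invol.isKleinFour_closure_pair ha hb hne hab.eq
  obtain ⟨g, hg⟩ := CfsgLib.Invol.exists_conj_le_sylow (Q := Subgroup.closure {a, b})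
    (IsPGroup.of_card (n := 2) (hK.card_four.trans (by norm_num))) P
  refine ⟨g * a * g⁻¹, g * b * g⁻¹, hg a (Subgroup.subset_closure (by simp)),
    hg b (Subgroup.subset_closure (by simp)), CfsgLib.Invol.invol_conj ha g, CfsgLib.Invol.invol_conj hb g,
    fun h => hne (mul_left_cancel (mul_right_cancel h)), ?_⟩
  show MulAut.conj g a * MulAut.conj g b = MulAut.conj g b * MulAut.conj g a
  rw [← map_mul, hab.eq, map_mul]

theorem card_sylow_abelian (hodd : Odd (Fintype.card F)) (P : Sylow 2 PSL2)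
    (hab : ∀ a ∈ (P : Subgroup PSL2), ∀ b ∈ (P : Subgroup PSL2), a * b = b * a) :
    Nat.card (P : Subgroup PSL2) = 4 := by
  haveI : Fact (Nat.Prime 2) := ⟨Nat.prime_two⟩
  obtain ⟨a, b, haP, hbP, ha, hb, hne, hc⟩ := exists_four_mem hodd P
  have hsq : ∀ x ∈ (P : Subgroup PSL2), x * x = 1 := fun x hx =>
    CfsgLib.EqConj.psl_cent_four hodd ha hb hne hc (hab x hx a haP) (hab x hx b hbP)
  obtain ⟨k, hk⟩ := IsPGroup.iff_card.1 P.isPGroup'
  have hk2 := CfsgLib.EqConj.card_le_four_of_elementary hodd _ hk hsq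
  haveI hK : IsKleinFour (Subgroup.closure {a, b}) := CfsgLib.Invol.isKleinFour_closure_pair ha hb hne hc
  have h4 : 4 ≤ Nat.card (P : Subgroup PSL2) := hK.card_four.symm.le.trans
    (Subgroup.card_le_of_le ((Subgroup.closure_le _).2 (by rintro x (rfl | rfl) <;> assumption)))
  rw [hk] at h4 ⊢
  interval_cases k <;> simp_all

theorem mod_eight (hodd : Odd (Fintype.card F)) (P : Sylow 2 PSL2)
    (hab : ∀ a ∈ (P : Subgroup PSL2), ∀ b ∈ (P : Subgroup PSL2), a * b = b * a) :
    Fintype.card F % 8 = 3 ∨ Fintype.card F % 8 = 5 := by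
  haveI : Fact (Nat.Prime 2) := ⟨Nat.prime_two⟩
  have h4 := card_sylow_abelian hodd P hab
  have hm := CfsgLib.Classical.card_psl_mul (F := F) (n := 2) (by norm_num)
  rw [Fin.prod_univ_two] at hm
  have hq := Fintype.one_lt_card (α := F)
  obtain ⟨c, hc⟩ := hodd
  rw [Nat.gcd_eq_left (by omega : 2 ∣ Fintype.card F - 1), hc] at hm
  by_contra h
  have h2 : 8 ∣ (2 * c + 1) ^ 2 - 1 ∧ 16 ∣ (2 * c + 1) ^ 2 - 1 := by
    have h1 : (2 * c + 1) ^ 2 - 1 = 4 * c * (c + 1) := by
      rw [show (2 * c + 1) ^ 2 = 4 * c * (c + 1) + 1 by ring]; omega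
    have h4c : 4 ∣ c ∨ 4 ∣ c + 1 := by omega
    rw [h1]
    rcases h4c with ⟨d, hd⟩ | ⟨d, hd⟩
    · exact ⟨⟨2 * d * (c + 1), by rw [hd]; ring⟩, ⟨d * (c + 1), by rw [hd]; ring⟩⟩
    · exact ⟨⟨2 * c * d, by rw [hd]; ring⟩, ⟨c * d, by rw [hd]; ring⟩⟩
  set X := Nat.card PSL2 with hX
  have h16 : 2 * ((2 * c) * X) = ((2 * c + 1) ^ 2 - 1) * ((2 * c) * (2 * c + 1)) := by
    have e1 : (2 * c + 1) ^ 2 - (2 * c + 1) ^ ((0 : Fin 2) : ℕ) = (2 * c + 1) ^ 2 - 1 := by simp
    have e2 : (2 * c + 1) ^ 2 - (2 * c + 1) ^ ((1 : Fin 2) : ℕ) = (2 * c) * (2 * c + 1) := by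
      simp [pow_two, Nat.mul_comm, ← Nat.mul_sub_one]
    rw [← e1, ← e2]
    simpa using hm
  obtain ⟨d, hd⟩ := h2.2
  rw [hd] at h16
  have hXd : X = 8 * (d * (2 * c + 1)) :=
    Nat.eq_of_mul_eq_mul_left (show 0 < 4 * c by omega) (by linarith)
  have h8 : (8 : ℕ) ∣ X := ⟨_, hXd⟩
  obtain ⟨Q, hQ⟩ := Sylow.exists_subgroup_card_pow_prime 2 (n := 3) (G := PSL2) (by simpa using h8)
  obtain ⟨R, hR⟩ := (IsPGroup.of_card hQ).exists_le_sylow
  have := Subgroup.card_le_of_le hR
  rw [hQ, Sylow.card_eq_multiplicity, ← Sylow.card_eq_multiplicity P, h4] at this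
  norm_num at this

/-- A 2-automorphism fixing two commuting involutions is inner if `q ≡ 3, 5 (mod 8)`. -/
theorem eq_conj_of_fix (hodd : Odd (Fintype.card F)) (h8 : Fintype.card F % 8 = 3 ∨ Fintype.card F % 8 = 5)
    {s r : PSL2} (hs : orderOf s = 2) (hr : orderOf r = 2) (hne : s ≠ r) (hsr : s * r = r * s)
    (β : MulAut PSL2) (hβ : ∃ k : ℕ, β ^ 2 ^ k = 1) (hβs : β s = s) (hβr : β r = r) :
    ∃ x : PSL2, β = MulAut.conj x := by
  have h2 := two_ne hodd
  obtain ⟨k, hk⟩ := hβ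
  have hσ : CfsgLib.GW.fieldPartHom β = 1 := by
    by_contra h
    have h1 : CfsgLib.GW.fieldPartHom β ^ 2 ^ k = 1 := by rw [← map_pow, hk, map_one]
    obtain ⟨j, -, hj⟩ := (Nat.dvd_prime_pow Nat.prime_two).1 (orderOf_dvd_of_pow_eq_one h1)
    obtain ⟨j, rfl⟩ : ∃ i, j = i + 1 := ⟨j - 1, by
      have : j ≠ 0 := fun e => h (orderOf_eq_one_iff.1 (by rw [hj, e, pow_zero]))
      omega⟩
    have hτ : orderOf (CfsgLib.GW.fieldPartHom β ^ 2 ^ j) = 2 := by
      rw [orderOf_pow' _ (pow_ne_zero j two_ne_zero), hj, Nat.gcd_eq_right (pow_dvd_pow 2 j.le_succ), pow_succ, Nat.mul_div_cancel_left _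
        (pow_pos two_pos j)]
    have hm1 := CfsgLib.GW.isSquare_fixed h2 hτ (c := (-1 : F)) (by rw [map_neg, map_one])
    have hp2 := CfsgLib.GW.isSquare_fixed h2 hτ (c := (2 : F)) (map_ofNat _ 2)
    rw [FiniteField.isSquare_neg_one_iff] at hm1
    rw [FiniteField.isSquare_two_iff] at hp2
    omega
  obtain ⟨g, rfl⟩ := CfsgLib.GW.mem_ker_fieldPartHom.1 hσ
  obtain ⟨N, rfl⟩ := proj_surjective s
  obtain ⟨R, rfl⟩ := proj_surjective r
  have hNN := mat_mul_self (tr_eq_zero _ hs)
  have hRR := mat_mul_self (tr_eq_zero _ hr)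
  have hRN := anticomm h2 hs hr hne hsr
  have hsign : ∀ X : SL2, CfsgLib.AutPSL.indHom g (proj X) = proj X →
      g.1 * X.1 = X.1 * g.1 ∨ g.1 * X.1 = -(X.1 * g.1) := by
    intro X hX
    have e : CfsgLib.AutPSL.indHom g (proj X) = proj (CfsgLib.AutPSL.slConj g X) := by
      show proj (CfsgLib.AutPSL.slConj g (CfsgLib.AutPSL.slField 1 X)) = _
      rw [map_one]; rfl
    rw [e] at hX
    rcases proj_eq_cases hX with h | h <;> rw [CfsgLib.AutPSL.slConj_val] at h
    · left; conv_rhs => rw [← h, mul_assoc, Units.inv_mul, mul_one]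
    · right; conv_rhs => rw [← neg_mul, ← h, mul_assoc, Units.inv_mul, mul_one]
  -- the twisting element
  obtain ⟨K, hK, hKN, hKR⟩ : ∃ K : SL2, True ∧ (g.1 * K.1) * N.1 = N.1 * (g.1 * K.1) ∧
      (g.1 * K.1) * R.1 = R.1 * (g.1 * K.1) := by
    have hNR : N.1 * R.1 = -(R.1 * N.1) := by rw [hRN, neg_neg]
    rcases hsign N hβs with a | a <;> rcases hsign R hβr with b | b
    · exact ⟨1, trivial, by simpa using a, by simpa using b⟩
    · refine ⟨N, trivial, ?_, ?_⟩
      · rw [← mul_assoc, ← a]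
      · rw [mul_assoc, hNR, mul_neg, ← mul_assoc, b, neg_mul, neg_neg, mul_assoc]
    · refine ⟨R, trivial, ?_, ?_⟩
      · rw [mul_assoc, hRN, mul_neg, ← mul_assoc, a, neg_mul, neg_neg, mul_assoc]
      · rw [← mul_assoc, ← b]
    · refine ⟨N * R, trivial, ?_, ?_⟩ <;> rw [val_mul']
      · rw [mul_assoc, mul_assoc, hRN, mul_neg, mul_neg, ← mul_assoc g.1, a, neg_mul, neg_neg, mul_assoc]
      · rw [mul_assoc, mul_assoc N.1, ← mul_assoc R.1 g.1,
          show R.1 * g.1 = -(g.1 * R.1) by rw [b, neg_neg], neg_mul, mul_assoc g.1, ← mul_assoc R.1 N.1,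
          hRN, neg_mul, mul_neg, neg_neg, mul_assoc N.1]
  obtain ⟨a, l, hgK⟩ := comb_of_commute h2 (tr_eq_zero _ hs) hKN
  have hl : l = 0 := by
    rw [hgK] at hKR
    simp only [add_mul, mul_add, smul_mul_assoc, mul_smul_comm, one_mul, mul_one, hRN, smul_neg] at hKR
    have h4 : (2 * l) • (N * R : SL2).1 = 0 := by
      rw [val_mul']; linear_combination (norm := module) hKR
    exact (mul_eq_zero.1 ((smul_eq_zero.1 h4).resolve_right (mat_ne_zero _))).resolve_left h2
  rw [hl, zero_smul, add_zero] at hgK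
  have hK1 : CfsgLib.AutPSL.indHom (g * Matrix.SpecialLinearGroup.toGL K) = 1 :=
    CfsgLib.AutPSL.indHom_scalar le_rfl (c := a) hgK
  refine ⟨(proj K)⁻¹, ?_⟩
  rw [map_mul, ← CfsgLib.AutPSL.conj_proj, mul_eq_one_iff_eq_inv] at hK1
  rw [hK1, map_inv]
  rfl

end CfsgLib.PslMax
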