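import Cfsg.Agent.Lib.Bender.Consumers.PslFacts
import Cfsg.Agent.Lib.Bender.Full.Solvable
import Cfsg.Agent.Lib.Ree.Entry
import Cfsg.Agent.Lib.Perm.Dickson.Minimal
import Cfsg.Prelude.Def_TwoFusion

/-!
# Involution centralizers of type `2 × PSL(2, q)` with abelian Sylow 2-subgroups are maximal
-/

set_option autoImplicit false
set_option linter.unusedSectionVars false
set_option linter.style.haveILetI false

namespace CfsgLib.PslMax

open Subgroup CfsgLib.Invol

universe u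

/-- An element of odd order is a power of its square. -/
theorem mem_zpowers_sq {G : Type u} [Group G] {g : G} (hg : Odd (orderOf g)) : g ∈ zpowers (g * g) := by
  obtain ⟨j, hj⟩ := hg
  refine ⟨(j : ℤ) + 1, ?_⟩
  show (g * g) ^ ((j : ℤ) + 1) = g
  rw [show ((j : ℤ) + 1) = ((j + 1 : ℕ) : ℤ) by simp, zpow_natCast, ← pow_two, ← pow_mul,
    show 2 * (j + 1) = orderOf g + 1 by omega, pow_succ, pow_orderOf_eq_one, one_mul]

/-- The elements of the four-group of two commuting involutions. -/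
theorem klein_cases {G : Type u} [Group G] [Finite G] {a b x : G} (ha : orderOf a = 2) (hb : orderOf b = 2)
    (hab : a * b = b * a) (hx : x ∈ closure ({a, b} : Set G)) : x = 1 ∨ x = a ∨ x = b ∨ x = a * b := by
  have h2 : (a * b) * (a * b) = 1 := by
    rw [mul_assoc, ← mul_assoc b, ← hab, mul_assoc a b b, invol_mul_self hb, mul_one, invol_mul_self ha]
  obtain ⟨k, hk⟩ := CfsgLib.Invol.mem_closure_pair ha hb hx
  rcases Int.even_or_odd k with ⟨j, rfl⟩ | ⟨j, rfl⟩ <;> rcases hk with e | e <;>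
    simp [zpow_add, zpow_mul, two_mul, h2, ← (Commute.refl (a * b)).mul_zpow,
      ← mul_assoc, invol_mul_self ha] at e <;> simp [e]

/-- In a group with a four-group as Sylow 2-subgroup and no isolated involution, an element cycles
two commuting involutions and their product. -/
theorem exists_cycle {X : Type u} [Group X] [Finite X] [IsSimpleGroup X] (hna : ¬ IsMulCommutative X)
    (hcard : ∀ P : Sylow 2 X, Nat.card (P : Subgroup X) = 4) (hex : ∃ x : X, orderOf x = 2) :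
    ∃ a b n : X, orderOf a = 2 ∧ orderOf b = 2 ∧ a ≠ b ∧ a * b = b * a ∧ n * a * n⁻¹ = b ∧
      n * b * n⁻¹ = a * b := by
  haveI : Fact (Nat.Prime 2) := ⟨Nat.prime_two⟩
  obtain ⟨a, ha⟩ := hex
  have hni := CfsgLib.ReeType.not_isolated_of_simple hna a
  unfold Cfsg.IsIsolatedInvolution at hni
  push Not at hni
  obtain ⟨g, hc, hne⟩ := hni ha
  set b := g * a * g⁻¹ with hbdef
  have hb : orderOf b = 2 := invol_conj ha g
  haveI hK : IsKleinFour (closure {a, b}) := isKleinFour_closure_pair ha hb hne.symm hc.eq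
  obtain ⟨P, hP⟩ := (IsPGroup.of_card (n := 2) (hK.card_four.trans (by norm_num)) :
    IsPGroup 2 (closure {a, b})).exists_le_sylow
  have hPK : (P : Subgroup X) = closure {a, b} :=
    (Subgroup.eq_of_le_of_card_ge hP (by rw [hcard P, hK.card_four])).symm
  haveI : IsMulCommutative (P : Subgroup X) := ⟨⟨fun u v => by
    have hsq : ∀ w : ↥(P : Subgroup X), w⁻¹ = w := fun w => by
      refine inv_eq_of_mul_eq_one_right (Subtype.ext ?_)
      rcases klein_cases ha hb hc.eq (hPK.le w.2) with e | e | e | e <;> rw [Subgroup.coe_mul, e]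
      · simp
      · exact invol_mul_self ha
      · exact invol_mul_self hb
      · rw [mul_assoc, ← mul_assoc b, ← hc.eq, mul_assoc a b b, invol_mul_self hb, mul_one,
          invol_mul_self ha]
        rfl
    calc u * v = (u * v)⁻¹ := (hsq _).symm
      _ = v * u := by rw [_root_.mul_inv_rev, hsq, hsq]⟩⟩
  have hPc : (P : Subgroup X) ≤ centralizer ({a} : Set X) := hPK ▸ (closure_le _).2 (by
    rintro x (rfl | rfl)
    · exact mem_centralizer_singleton_iff.2 rfl
    · exact mem_centralizer_singleton_iff.2 hc.symm.eq)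
  obtain ⟨n, hn, hn'⟩ := P.conj_eq_normalizer_conj_of_mem a g⁻¹ (hP (subset_closure (by simp)))
    (by rw [inv_inv]; exact hP (subset_closure (by simp [hbdef])))
  rw [inv_inv] at hn'
  -- turn `n` into the direction of `g`
  obtain ⟨m, hm, hma⟩ : ∃ m ∈ normalizer ((P : Subgroup X) : Set X), m * a * m⁻¹ = b :=
    ⟨n⁻¹, inv_mem hn, by rw [inv_inv]; exact hn'.symm⟩
  have hmem : ∀ x ∈ (P : Subgroup X), x = 1 ∨ x = a ∨ x = b ∨ x = a * b := by
    intro x hx
    exact klein_cases ha hb hc.eq (hPK.le hx)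
  refine ⟨a, b, m, ha, hb, hne.symm, hc.eq, hma, ?_⟩
  have hmb : m * b * m⁻¹ ∈ (P : Subgroup X) :=
    (mem_normalizer_iff.1 hm b).1 (hP (subset_closure (by simp)))
  rcases hmem _ hmb with h | h | h | h
  · exact absurd (conj_eq_one_iff.1 h) (invol_ne_one hb)
  · exfalso
    -- the 2-part of `m` would lie in `P`
    obtain ⟨k, l, hl, hkl⟩ := Nat.exists_eq_two_pow_mul_odd (orderOf_pos m).ne'
    obtain ⟨i, rfl⟩ := hl
    have hsw : ∀ e : ℕ, m ^ (2 * e + 1) * a * (m ^ (2 * e + 1))⁻¹ = b := by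
      intro e
      induction e with
      | zero => simpa using hma
      | succ e ih =>
        calc m ^ (2 * (e + 1) + 1) * a * (m ^ (2 * (e + 1) + 1))⁻¹
            = m * (m * (m ^ (2 * e + 1) * a * (m ^ (2 * e + 1))⁻¹) * m⁻¹) * m⁻¹ := by
              rw [show 2 * (e + 1) + 1 = (2 * e + 1) + 1 + 1 by ring, pow_succ' _ (2 * e + 1 + 1),
                pow_succ' _ (2 * e + 1)]
              group
          _ = b := by rw [ih, h, hma]
    have hp : IsPGroup 2 (zpowers (m ^ (2 * i + 1))) := by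
      intro x
      refine ⟨k, ?_⟩
      obtain ⟨j, hj⟩ := x.2
      refine Subtype.ext ?_
      rw [SubgroupClass.coe_pow, ← hj]
      show ((m ^ (2 * i + 1)) ^ j) ^ 2 ^ k = 1
      rw [← zpow_natCast, zpow_comm, zpow_natCast, ← pow_mul,
        show (2 * i + 1) * 2 ^ k = orderOf m by rw [hkl, mul_comm], pow_orderOf_eq_one, one_zpow]
    have hle : zpowers (m ^ (2 * i + 1)) ≤ normalizer ((P : Subgroup X) : Set X) :=
      zpowers_le.2 (pow_mem hm _)
    have hsup := hp.to_sup_of_normal_right' P.isPGroup' hle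
    have hin : m ^ (2 * i + 1) ∈ (P : Subgroup X) := by
      rw [← P.is_maximal' hsup le_sup_right]
      exact mem_sup_left (mem_zpowers _)
    have hca := mem_centralizer_singleton_iff.1 (hPc hin)
    have := hsw i
    rw [hca, mul_inv_cancel_right] at this
    exact hne this.symm
  · exact absurd ((mul_left_cancel (mul_right_cancel (hma.trans h.symm)))) hne.symm
  · exact h

variable {G : Type u} [Group G] [Finite G] {F : Type} [Field F] [Fintype F] {t : G} {E E₀ : Subgroup G}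

local notation "PSL2" => Matrix.ProjectiveSpecialLinearGroup (Fin 2) F

/-- The situation. -/
structure Cx (t : G) (E E₀ : Subgroup G) (φ : E₀ ≃* Matrix.ProjectiveSpecialLinearGroup (Fin 2) F) : Prop where
  ht : orderOf t = 2
  hodd : Odd (Fintype.card F)
  le_C : E ≤ centralizer ({t} : Set G)
  not_mem : t ∉ E
  split : ∀ c ∈ centralizer ({t} : Set G), c ∈ E ∨ t * c ∈ E
  hE₀E : E₀ ≤ E
  hn : ∀ e ∈ E, ∀ x ∈ E₀, e * x * e⁻¹ ∈ E₀
  hCE : E ⊓ centralizer (E₀ : Set G) = ⊥
  hab : ∀ P : Sylow 2 G, ∀ a ∈ (P : Subgroup G), ∀ b ∈ (P : Subgroup G), a * b = b * a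

namespace Cx

variable {φ : E₀ ≃* Matrix.ProjectiveSpecialLinearGroup (Fin 2) F}
variable (h : Cx t E E₀ φ)
include h

theorem tC : t ∈ centralizer ({t} : Set G) := mem_centralizer_singleton_iff.2 rfl

theorem comm {c : G} (hc : c ∈ centralizer ({t} : Set G)) : c * t = t * c :=
  mem_centralizer_singleton_iff.1 hc

theorem conj_E₀ {c x : G} (hc : c ∈ centralizer ({t} : Set G)) (hx : x ∈ E₀) : c * x * c⁻¹ ∈ E₀ := by
  rcases h.split c hc with h1 | h1
  · exact h.hn c h1 x hx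
  · have h2 := h.hn _ h1 x hx
    have h3 : t * (c * x * c⁻¹) = c * x * c⁻¹ * t :=
      (h.comm (mul_mem (mul_mem hc (h.le_C (h.hE₀E hx))) (inv_mem hc))).symm
    rwa [show t * c * x * (t * c)⁻¹ = t * (c * x * c⁻¹) * t⁻¹ by group, h3, mul_inv_cancel_right] at h2

theorem mem_E_of_odd {c : G} (hc : c ∈ centralizer ({t} : Set G)) (ho : Odd (orderOf c)) : c ∈ E := by
  refine zpowers_le.2 ?_ (mem_zpowers_sq ho)
  rcases h.split c hc with h1 | h1
  · exact mul_mem h1 h1
  · have := mul_mem h1 h1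
    rwa [show t * c * (t * c) = t * (c * t) * c by group, h.comm hc, ← mul_assoc t t c,
      invol_mul_self h.ht, one_mul] at this

/-- All Sylow 2-subgroups of `PSL(2, q)` are abelian of order four. -/
theorem psl_sylow (Q : Sylow 2 PSL2) :
    (∀ a ∈ (Q : Subgroup PSL2), ∀ b ∈ (Q : Subgroup PSL2), a * b = b * a) := by
  haveI : Fact (Nat.Prime 2) := ⟨Nat.prime_two⟩
  intro a ha b hb
  obtain ⟨P, hP⟩ := (Q.isPGroup'.map (E₀.subtype.comp φ.symm.toMonoidHom)).exists_le_sylow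
  have h1 := h.hab P _ (hP ⟨a, ha, rfl⟩) _ (hP ⟨b, hb, rfl⟩)
  have h2 : φ.symm a * φ.symm b = φ.symm b * φ.symm a := Subtype.ext h1
  rw [← map_mul, ← map_mul] at h2
  exact φ.symm.injective h2

theorem psl_card (Q : Sylow 2 PSL2) : Nat.card (Q : Subgroup PSL2) = 4 :=
  card_sylow_abelian h.hodd Q (h.psl_sylow Q)

theorem q_mod : Fintype.card F % 8 = 3 ∨ Fintype.card F % 8 = 5 :=
  let ⟨Q⟩ := (inferInstance : Nonempty (Sylow 2 PSL2))
  mod_eight h.hodd Q (h.psl_sylow Q)

theorem psl_simple (h3 : Fintype.card F ≠ 3) :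
    IsSimpleGroup PSL2 ∧ ¬ IsMulCommutative PSL2 := by
  refine CfsgLib.Perm.Dickson.psl_simple_noncomm ?_
  have := h.q_mod
  rw [Nat.card_eq_fintype_card]
  omega

/-- A Sylow 2-subgroup of the centralizer: `⟨t⟩` times a cycled four-group of `E₀`. -/
theorem exists_frame (h3 : Fintype.card F ≠ 3) :
    ∃ (P : Sylow 2 G) (a b n : G), t ∈ (P : Subgroup G) ∧ (P : Subgroup G) ≤ centralizer ({t} : Set G) ∧
      a ∈ E₀ ∧ b ∈ E₀ ∧ n ∈ E₀ ∧ a ∈ (P : Subgroup G) ∧ b ∈ (P : Subgroup G) ∧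
      orderOf a = 2 ∧ orderOf b = 2 ∧ a ≠ b ∧ n * a * n⁻¹ = b ∧ n * b * n⁻¹ = a * b ∧
      (∀ x ∈ (P : Subgroup G), x = 1 ∨ x = a ∨ x = b ∨ x = a * b ∨
        x = t ∨ x = t * a ∨ x = t * b ∨ x = t * (a * b)) ∧
      (∀ x ∈ E, orderOf x = 2 → x ∈ E₀) := by
  haveI : Fact (Nat.Prime 2) := ⟨Nat.prime_two⟩
  obtain ⟨hs, hna⟩ := h.psl_simple h3
  haveI := hs
  obtain ⟨Q0⟩ := (inferInstance : Nonempty (Sylow 2 PSL2))
  obtain ⟨x0, -, -, -, hx0, -⟩ := exists_four_mem h.hodd Q0
  obtain ⟨a0, b0, n0, ha0, hb0, hne0, hab0, hn1, hn2⟩ :=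
    exists_cycle hna (fun Q => h.psl_card Q) ⟨x0, hx0⟩
  set ψ : PSL2 →* G := E₀.subtype.comp φ.symm.toMonoidHom with hψ
  have hψi : Function.Injective ψ := E₀.subtype_injective.comp φ.symm.injective
  have hψm : ∀ x, ψ x ∈ E₀ := fun x => (φ.symm x).2
  set C := centralizer ({t} : Set G) with hC
  haveI hK : IsKleinFour (closure {a0, b0}) := isKleinFour_closure_pair ha0 hb0 hne0 hab0
  have hKp : IsPGroup 2 (closure {a0, b0}) := IsPGroup.of_card (n := 2) (hK.card_four.trans (by norm_num))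
  -- a Sylow subgroup of `G` at `t`
  obtain ⟨P1, hP1⟩ := (IsPGroup.of_card (n := 1) (by rw [Nat.card_zpowers, h.ht, pow_one]) :
    IsPGroup 2 (zpowers t)).exists_le_sylow
  have hP1C : (P1 : Subgroup G) ≤ C := fun x hx =>
    mem_centralizer_singleton_iff.2 (h.hab P1 x hx t (hP1 (mem_zpowers t)))
  have hKC : (closure {a0, b0}).map ψ ≤ C := map_le_iff_le_comap.2 fun x _ => h.le_C (h.hE₀E (hψm x))
  obtain ⟨c, hc⟩ := exists_conj_le_sylow (G := C) (Q := ((closure {a0, b0}).map ψ).subgroupOf C)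
    ((hKp.map ψ).comap_subtype) (P1.subtype hP1C)
  set a := (c : G) * ψ a0 * (c : G)⁻¹ with hadef
  set b := (c : G) * ψ b0 * (c : G)⁻¹ with hbdef
  have haP : a ∈ (P1 : Subgroup G) := hc ⟨ψ a0, h.le_C (h.hE₀E (hψm a0))⟩ ⟨a0, subset_closure (by simp), rfl⟩
  have hbP : b ∈ (P1 : Subgroup G) := hc ⟨ψ b0, h.le_C (h.hE₀E (hψm b0))⟩ ⟨b0, subset_closure (by simp), rfl⟩
  have hord : ∀ {x : PSL2}, orderOf x = 2 → orderOf ((c : G) * ψ x * (c : G)⁻¹) = 2 := fun hx =>
    invol_conj (by rw [orderOf_injective ψ hψi, hx]) _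
  have ha : a ∈ E₀ := h.conj_E₀ c.2 (hψm _)
  have hb : b ∈ E₀ := h.conj_E₀ c.2 (hψm _)
  have hne : a ≠ b := fun e => hne0 (hψi (mul_left_cancel (mul_right_cancel e)))
  -- elements of `P ∩ E₀` square to one
  have hfour : ∀ y ∈ (P1 : Subgroup G), y ∈ E₀ → y = 1 ∨ y = a ∨ y = b ∨ y = a * b := by
    intro y hy hy0
    obtain ⟨R, hR⟩ := (((P1.isPGroup').to_le (inf_le_left : (P1 : Subgroup G) ⊓ E₀ ≤ P1)).comap_subtype
      (K := E₀)).map φ.toMonoidHom |>.exists_le_sylow
    have hmemR : ∀ (z : G) (hz : z ∈ (P1 : Subgroup G)) (hz0 : z ∈ E₀), φ ⟨z, hz0⟩ ∈ (R : Subgroup PSL2) :=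
      fun z hz hz0 => hR ⟨⟨z, hz0⟩, mem_inf.2 ⟨hz, hz0⟩, rfl⟩
    have hA := hmemR a haP ha
    have hB := hmemR b hbP hb
    have hAo : ∀ (z : G) (hz0 : z ∈ E₀), orderOf z = 2 → orderOf (φ ⟨z, hz0⟩) = 2 := fun z hz0 hz => by
      rw [MulEquiv.orderOf_eq, ← Subgroup.orderOf_coe]; exact hz
    haveI hKR : IsKleinFour (closure {φ ⟨a, ha⟩, φ ⟨b, hb⟩}) :=
      isKleinFour_closure_pair (hAo a ha (hord ha0)) (hAo b hb (hord hb0))
        (fun e => hne (congrArg Subtype.val (φ.injective e))) (h.psl_sylow R _ hA _ hB)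
    have hR4 : closure {φ ⟨a, ha⟩, φ ⟨b, hb⟩} = (R : Subgroup PSL2) :=
      Subgroup.eq_of_le_of_card_ge ((closure_le _).2 (by rintro z (rfl | rfl) <;> assumption))
        (by rw [hKR.card_four, h.psl_card R])
    have hyR := hmemR y hy hy0
    rw [← hR4] at hyR
    rcases klein_cases (hAo a ha (hord ha0)) (hAo b hb (hord hb0)) (h.psl_sylow R _ hA _ hB) hyR with e | e | e | e
    · exact Or.inl (congrArg Subtype.val (φ.injective (e.trans (map_one φ).symm)))
    · exact Or.inr (Or.inl (congrArg Subtype.val (φ.injective e)))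
    · exact Or.inr (Or.inr (Or.inl (congrArg Subtype.val (φ.injective e))))
    · exact Or.inr (Or.inr (Or.inr (congrArg Subtype.val (φ.injective (e.trans (map_mul φ _ _).symm)))))
  -- `P ∩ E ≤ E₀`
  have hPE : ∀ y ∈ (P1 : Subgroup G), y ∈ E → y ∈ E₀ := by
    intro y hy hyE
    obtain ⟨β, hβ⟩ : ∃ β : MulAut E₀, ∀ z : E₀, ((β z : E₀) : G) = y * z * y⁻¹ := by
      refine ⟨⟨⟨fun z => ⟨_, h.hn y hyE z z.2⟩, fun z => ⟨_, h.hn y⁻¹ (inv_mem hyE) z z.2⟩,
        fun z => Subtype.ext (by group), fun z => Subtype.ext (by group)⟩,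
        fun z w => Subtype.ext (by simp only [Subgroup.coe_mul]; group)⟩, fun z => rfl⟩
    have hpow : ∀ (k : ℕ) (z : E₀), (((β ^ k) z : E₀) : G) = y ^ k * z * (y ^ k)⁻¹ := by
      intro k
      induction k with
      | zero => intro z; simp
      | succ k ih =>
        intro z
        rw [pow_succ', MulAut.mul_apply, hβ, ih, pow_succ']
        group
    obtain ⟨k, hk⟩ := P1.isPGroup' ⟨y, hy⟩
    have hyk : y ^ 2 ^ k = 1 := congrArg Subtype.val hk
    have hfix : ∀ (z : G) (hz0 : z ∈ E₀), z ∈ (P1 : Subgroup G) → MulAut.congr φ β (φ ⟨z, hz0⟩) = φ ⟨z, hz0⟩ := by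
      intro z hz0 hz
      show φ (β (φ.symm (φ ⟨z, hz0⟩))) = _
      rw [φ.symm_apply_apply]
      refine congrArg φ (Subtype.ext ?_)
      rw [hβ, h.hab P1 y hy z hz, mul_inv_cancel_right]
    obtain ⟨x, hx⟩ := eq_conj_of_fix h.hodd h.q_mod (s := φ ⟨a, ha⟩) (r := φ ⟨b, hb⟩)
      (by rw [MulEquiv.orderOf_eq, ← Subgroup.orderOf_coe]; exact hord ha0)
      (by rw [MulEquiv.orderOf_eq, ← Subgroup.orderOf_coe]; exact hord hb0)
      (fun e => hne (congrArg Subtype.val (φ.injective e)))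
      (by rw [← map_mul, ← map_mul]; exact congrArg φ (Subtype.ext (h.hab P1 a haP b hbP)))
      (MulAut.congr φ β) ⟨k, by
        rw [← map_pow]
        refine (map_eq_one_iff _ (MulAut.congr φ).injective).2 (MulEquiv.ext fun z => Subtype.ext ?_)
        rw [hpow, hyk]; simp⟩ (hfix a ha haP) (hfix b hb hbP)
    have hc1 : ((φ.symm x : E₀) : G)⁻¹ * y ∈ E ⊓ centralizer (E₀ : Set G) := by
      refine mem_inf.2 ⟨mul_mem (inv_mem (h.hE₀E (φ.symm x).2)) hyE, mem_centralizer_iff.2 fun z hz => ?_⟩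
      have h1 : MulAut.congr φ β (φ ⟨z, hz⟩) = x * φ ⟨z, hz⟩ * x⁻¹ := by rw [hx]; rfl
      have h2 : β ⟨z, hz⟩ = φ.symm x * ⟨z, hz⟩ * (φ.symm x)⁻¹ := by
        apply φ.injective
        simpa using h1
      have h4 : y * z * y⁻¹ = ((φ.symm x : E₀) : G) * z * ((φ.symm x : E₀) : G)⁻¹ := by
        have := congrArg Subtype.val h2
        rw [hβ] at this
        simpa using this
      calc z * (((φ.symm x : E₀) : G)⁻¹ * y)
          = ((φ.symm x : E₀) : G)⁻¹ * (((φ.symm x : E₀) : G) * z * ((φ.symm x : E₀) : G)⁻¹) * y := by group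
        _ = ((φ.symm x : E₀) : G)⁻¹ * y * z := by rw [← h4]; group
    rw [h.hCE, mem_bot, inv_mul_eq_one] at hc1
    exact hc1 ▸ (φ.symm x).2
  have hP1all : ∀ x ∈ (P1 : Subgroup G), x = 1 ∨ x = a ∨ x = b ∨ x = a * b ∨
      x = t ∨ x = t * a ∨ x = t * b ∨ x = t * (a * b) := by
    intro x hx
    rcases h.split x (hP1C hx) with h1 | h1
    · rcases hfour x hx (hPE x hx h1) with e | e | e | e <;> simp [e]
    · have hm : t * x ∈ (P1 : Subgroup G) := mul_mem (hP1 (mem_zpowers t)) hx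
      have ex : x = t * (t * x) := by rw [← mul_assoc, invol_mul_self h.ht, one_mul]
      rcases hfour _ hm (hPE _ hm h1) with e | e | e | e <;> rw [e] at ex <;> simp [ex]
  refine ⟨P1, a, b, (c : G) * ψ n0 * (c : G)⁻¹, hP1 (mem_zpowers t), hP1C, ha, hb, h.conj_E₀ c.2 (hψm _),
    haP, hbP, hord ha0, hord hb0, hne, ?_, ?_, hP1all, fun x hx hxo => ?_⟩
  · rw [hbdef, ← hn1, map_mul, map_mul, map_inv, hadef]; group
  · rw [hbdef, hadef,
      show (c : G) * ψ a0 * (c : G)⁻¹ * ((c : G) * ψ b0 * (c : G)⁻¹) = (c : G) * ψ (a0 * b0) * (c : G)⁻¹ by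
        rw [map_mul]; group,
      ← hn2, map_mul, map_mul, map_inv]
    group
  · obtain ⟨d, hd⟩ := exists_conj_le_sylow (G := C) (Q := (zpowers x).subgroupOf C)
      ((IsPGroup.of_card (n := 1) (by rw [Nat.card_zpowers, hxo, pow_one])).comap_subtype) (P1.subtype hP1C)
    have hdx : (d : G) * x * (d : G)⁻¹ ∈ (P1 : Subgroup G) := hd ⟨x, h.le_C hx⟩ (mem_zpowers x)
    have hdE : (d : G) * x * (d : G)⁻¹ ∈ E := by
      rcases h.split d d.2 with h1 | h1
      · exact mul_mem (mul_mem h1 hx) (inv_mem h1)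
      · have h2 := mul_mem (mul_mem h1 hx) (inv_mem h1)
        have h4 : (d : G) * x * (d : G)⁻¹ * t = t * ((d : G) * x * (d : G)⁻¹) :=
          h.comm (mul_mem (mul_mem d.2 (h.le_C hx)) (inv_mem d.2))
        rwa [show t * (d : G) * x * (t * (d : G))⁻¹ = t * ((d : G) * x * (d : G)⁻¹) * t⁻¹ by group,
          ← h4, mul_inv_cancel_right] at h2
    have := h.conj_E₀ (inv_mem d.2) (hPE _ hdx hdE)
    rwa [show (d : G)⁻¹ * ((d : G) * x * (d : G)⁻¹) * (d : G)⁻¹⁻¹ = x by group] at this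

/-- If `t` is not isolated in `M`, all involutions of `M` are conjugate to `t` in `M`. -/
theorem fused (h3 : Fintype.card F ≠ 3) {M : Subgroup G} (hM : centralizer ({t} : Set G) ≤ M)
    {g : G} (hg : g ∈ M) (hgc : Commute t (g * t * g⁻¹)) (hgne : g * t * g⁻¹ ≠ t)
    {x : G} (hx : x ∈ M) (hxo : orderOf x = 2) : ∃ m ∈ M, m * t * m⁻¹ = x := by
  classical
  haveI : Fact (Nat.Prime 2) := ⟨Nat.prime_two⟩
  obtain ⟨P, a, b, n, htP, hPC, ha, hb, hnE, haP, hbP, hao, hbo, hab, hn1, hn2, hP, -⟩ := h.exists_frame h3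
  have hPM : (P : Subgroup G) ≤ M := hPC.trans hM
  -- move the conjugate of `t` into `P`
  obtain ⟨c, hc⟩ := exists_conj_le_sylow (G := centralizer ({t} : Set G))
    (Q := (zpowers (g * t * g⁻¹)).subgroupOf _)
    ((IsPGroup.of_card (n := 1) (by rw [Nat.card_zpowers, invol_conj h.ht, pow_one])).comap_subtype)
    (P.subtype hPC)
  have hcP : (c : G) * (g * t * g⁻¹) * (c : G)⁻¹ ∈ (P : Subgroup G) :=
    hc ⟨_, mem_centralizer_singleton_iff.2 hgc.symm.eq⟩ (mem_zpowers _)
  have hcg : (c : G) * g ∈ M := mul_mem (hM c.2) hg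
  haveI : IsMulCommutative ((P.subtype hPM : Sylow 2 M) : Subgroup M) :=
    ⟨⟨fun u v => Subtype.ext (Subtype.ext (h.hab P _ u.2 _ v.2))⟩⟩
  obtain ⟨k, hk, hk'⟩ := (P.subtype hPM).conj_eq_normalizer_conj_of_mem (⟨t, hM h.tC⟩ : M)
    (⟨(c : G) * g, hcg⟩ : M)⁻¹ htP (by
      rw [inv_inv]
      show (c : G) * g * t * ((c : G) * g)⁻¹ ∈ (P : Subgroup G)
      rwa [show (c : G) * g * t * ((c : G) * g)⁻¹ = (c : G) * (g * t * g⁻¹) * (c : G)⁻¹ by group])
  -- the orbit of `t` under the normalizer of `P` in `M`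
  set N := M ⊓ normalizer ((P : Subgroup G) : Set G) with hN
  set O : Set G := (fun k : G => k * t * k⁻¹) '' (N : Set G) with hO
  have hkN : (k : G)⁻¹ ∈ N := mem_inf.2 ⟨inv_mem k.2, inv_mem (by
    rw [mem_normalizer_iff]
    intro y
    constructor
    · intro hy
      exact (mem_normalizer_iff.1 hk ⟨y, hPM hy⟩).1 hy
    · intro hy
      have h1 : y ∈ M := by
        have := mul_mem (mul_mem (inv_mem k.2) (hPM hy)) k.2
        simpa [mul_assoc] using this
      exact (mem_normalizer_iff.1 hk ⟨y, h1⟩).2 hy)⟩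
  have hmoved : (k : G)⁻¹ * t * k ≠ t := by
    intro e
    have h2 := congrArg Subtype.val hk'
    simp only [Subgroup.coe_mul, InvMemClass.coe_inv, inv_inv] at h2
    rw [e] at h2
    refine hgne ?_
    have h4 := h.comm c.2
    calc g * t * g⁻¹ = (c : G)⁻¹ * ((c : G) * g * t * ((c : G) * g)⁻¹) * c := by group
      _ = t := by rw [h2, mul_assoc, ← h4, inv_mul_cancel_left]
  -- `n` acts on the orbit
  have hnC : n ∈ centralizer ({t} : Set G) := h.le_C (h.hE₀E hnE)
  have hnab : n * (a * b) * n⁻¹ = a := by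
    rw [show n * (a * b) * n⁻¹ = n * a * n⁻¹ * (n * b * n⁻¹) by group, hn1, hn2, h.hab P a haP b hbP,
      ← mul_assoc, invol_mul_self hbo, one_mul]
  have hnt : ∀ v : G, n * (t * v) * n⁻¹ = t * (n * v * n⁻¹) := fun v => by
    rw [show n * (t * v) * n⁻¹ = n * t * v * n⁻¹ by group, h.comm hnC]; group
  have hntt : n * t * n⁻¹ = t := by rw [h.comm hnC, mul_inv_cancel_right]
  have hnN : n ∈ N := by
    refine mem_inf.2 ⟨hM hnC, mem_normalizer_iff_map_conj_eq.2 ?_⟩
    refine Subgroup.eq_of_le_of_card_ge ?_ (card_map_of_injective (MulAut.conj n).injective).ge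
    rintro _ ⟨y, hy, rfl⟩
    show n * y * n⁻¹ ∈ (P : Subgroup G)
    rcases hP y hy with rfl | rfl | rfl | rfl | rfl | rfl | rfl | rfl
    · simp
    · rw [hn1]; exact hbP
    · rw [hn2]; exact mul_mem haP hbP
    · rw [hnab]; exact haP
    · rw [hntt]; exact htP
    · rw [hnt, hn1]; exact mul_mem htP hbP
    · rw [hnt, hn2]; exact mul_mem htP (mul_mem haP hbP)
    · rw [hnt, hnab]; exact mul_mem htP haP
  have hOn : ∀ y ∈ O, n * y * n⁻¹ ∈ O := by
    rintro _ ⟨l, hl, rfl⟩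
    exact ⟨n * l, mul_mem hnN hl, by group⟩
  have hOP : ∀ y ∈ O, y ∈ (P : Subgroup G) ∧ y ≠ 1 := by
    rintro _ ⟨l, hl, rfl⟩
    exact ⟨(mem_normalizer_iff.1 (mem_inf.1 hl).2 t).1 htP, invol_ne_one (invol_conj h.ht l)⟩
  have htO : t ∈ O := ⟨1, one_mem _, by simp⟩
  -- the orbit has odd size
  have hodd : ¬ 2 ∣ O.ncard := by
    have hPN : (P : Subgroup G) ≤ N := le_inf hPM le_normalizer
    set T := (centralizer ({t} : Set G)).subgroupOf N with hT
    have e : O.ncard = T.index := by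
      rw [Subgroup.index, ← Nat.card_coe_set_eq]
      refine (Nat.card_congr (Equiv.ofBijective (fun q : N ⧸ T => Quotient.liftOn' q
        (fun l => (⟨(l : G) * t * (l : G)⁻¹, ⟨l, l.2, rfl⟩⟩ : O)) ?_) ⟨?_, ?_⟩)).symm
      · intro l l' hll
        rw [QuotientGroup.leftRel_apply, hT, mem_subgroupOf] at hll
        refine Subtype.ext ?_
        have h2 := h.comm hll
        simp only [Subgroup.coe_mul, InvMemClass.coe_inv] at h2
        calc (l : G) * t * (l : G)⁻¹ = l * (t * ((l : G)⁻¹ * l')) * (l' : G)⁻¹ := by group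
          _ = l' * t * (l' : G)⁻¹ := by rw [← h2]; group
      · intro q q' hq
        induction q using QuotientGroup.induction_on with
        | H l =>
          induction q' using QuotientGroup.induction_on with
          | H l' =>
            refine QuotientGroup.eq.2 ?_
            rw [hT, mem_subgroupOf, mem_centralizer_singleton_iff]
            have h2 : (l : G) * t * (l : G)⁻¹ = (l' : G) * t * (l' : G)⁻¹ := congrArg Subtype.val hq
            show (l : G)⁻¹ * l' * t = t * ((l : G)⁻¹ * l')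
            calc (l : G)⁻¹ * l' * t = (l : G)⁻¹ * ((l' : G) * t * (l' : G)⁻¹) * l' := by group
              _ = t * ((l : G)⁻¹ * l') := by rw [← h2]; group
      · rintro ⟨_, l, hl, rfl⟩
        exact ⟨QuotientGroup.mk ⟨l, hl⟩, rfl⟩
    rw [e]
    intro h2
    exact (P.subtype hPN).not_dvd_index (h2.trans (Subgroup.index_dvd_of_le
      (show ((P.subtype hPN : Sylow 2 N) : Subgroup N) ≤ T from fun y hy => hPC hy)))
  -- all seven involutions of `P` lie in the orbit
  have hcycA : a ∈ O → b ∈ O ∧ a * b ∈ O := fun h1 => ⟨hn1 ▸ hOn a h1, hn2 ▸ hOn b (hn1 ▸ hOn a h1)⟩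
  have hcycT : t * a ∈ O → t * b ∈ O ∧ t * (a * b) ∈ O := fun h1 => by
    have h2 := hOn _ h1
    rw [hnt, hn1] at h2
    have h4 := hOn _ h2
    rw [hnt, hn2] at h4
    exact ⟨h2, h4⟩
  have hA' : b ∈ O ∨ a * b ∈ O → a ∈ O := by
    rintro (h1 | h1)
    · have := hOn _ (hn2 ▸ hOn b h1)
      rwa [hnab] at this
    · exact hnab ▸ hOn _ h1
  have hT' : t * b ∈ O ∨ t * (a * b) ∈ O → t * a ∈ O := by
    have key : t * (a * b) ∈ O → t * a ∈ O := fun h1 => by
      have := hOn _ h1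
      rwa [hnt, hnab] at this
    rintro (h1 | h1)
    · refine key ?_
      have := hOn _ h1
      rwa [hnt, hn2] at this
    · exact key h1
  have hta : t ∉ E₀ := fun e => h.not_mem (h.hE₀E e)
  have hab2 : a * b ∈ E₀ := mul_mem ha hb
  have hd : ∀ v ∈ E₀, t ≠ v ∧ ∀ w ∈ E₀, t * v ≠ w := fun v hv => ⟨fun e => hta (e ▸ hv), fun w hw e =>
    hta (by rw [← mul_inv_eq_iff_eq_mul.2 e.symm]; exact mul_mem hw (inv_mem hv))⟩
  have hd1 : a ≠ a * b := fun e => invol_ne_one hbo (left_eq_mul.1 e)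
  have hd2 : b ≠ a * b := fun e => invol_ne_one hao (right_eq_mul.1 e)
  have hall : a ∈ O ∧ t * a ∈ O := by
    by_cases h1 : a ∈ O <;> by_cases h2 : t * a ∈ O
    · exact ⟨h1, h2⟩
    · exfalso
      refine hodd ?_
      have : O = {t, a, b, a * b} := by
        ext y
        constructor
        · intro hy
          rcases hP y (hOP y hy).1 with rfl | rfl | rfl | rfl | rfl | rfl | rfl | rfl
          · exact absurd rfl (hOP _ hy).2
          all_goals first | (simp; done) | exact absurd (hT' (Or.inl hy)) h2 | exact absurd (hT' (Or.inr hy)) h2 | exact absurd hy h2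
        · rintro (rfl | rfl | rfl | rfl)
          exacts [htO, h1, (hcycA h1).1, (hcycA h1).2]
      rw [this, Set.ncard_eq_toFinset_card']
      simp [(hd a ha).1, (hd b hb).1, (hd _ hab2).1, hab, hd1, hd2]
    · exfalso
      refine hodd ?_
      have : O = {t, t * a, t * b, t * (a * b)} := by
        ext y
        constructor
        · intro hy
          rcases hP y (hOP y hy).1 with rfl | rfl | rfl | rfl | rfl | rfl | rfl | rfl
          · exact absurd rfl (hOP _ hy).2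
          all_goals first | (simp; done) | exact absurd (hA' (Or.inl hy)) h1 | exact absurd (hA' (Or.inr hy)) h1 | exact absurd hy h1
        · rintro (rfl | rfl | rfl | rfl)
          exacts [htO, h2, (hcycT h2).1, (hcycT h2).2]
      rw [this, Set.ncard_eq_toFinset_card']
      have e1 : t ≠ t * a := fun e => invol_ne_one hao (left_eq_mul.1 e)
      have e2 : t ≠ t * b := fun e => invol_ne_one hbo (left_eq_mul.1 e)
      have e3 : t ≠ t * (a * b) := fun e => hab
        ((mul_eq_one_iff_eq_inv.1 (left_eq_mul.1 e)).trans (invol_inv hbo))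
      have e4 : t * a ≠ t * b := fun e => hab (mul_left_cancel e)
      have e5 : t * a ≠ t * (a * b) := fun e => hd1 (mul_left_cancel e)
      have e6 : t * b ≠ t * (a * b) := fun e => hd2 (mul_left_cancel e)
      simp [e1, e2, e3, e4, e5, e6]
    · exfalso
      have hO' : ∀ y ∈ O, y = t := by
        intro y hy
        rcases hP y (hOP y hy).1 with rfl | rfl | rfl | rfl | rfl | rfl | rfl | rfl
        · exact absurd rfl (hOP _ hy).2
        all_goals first | rfl | exact absurd hy h1 | exact absurd hy h2 | exact absurd (hA' (Or.inl hy)) h1 | exact absurd (hA' (Or.inr hy)) h1 | exact absurd (hT' (Or.inl hy)) h2 | exact absurd (hT' (Or.inr hy)) h2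
      exact hmoved (hO' _ ⟨(k : G)⁻¹, hkN, by simp⟩)
  obtain ⟨d, hd'⟩ := exists_conj_le_sylow (G := M) (Q := (zpowers x).subgroupOf M)
    ((IsPGroup.of_card (n := 1) (by rw [Nat.card_zpowers, hxo, pow_one])).comap_subtype) (P.subtype hPM)
  have hdx : (d : G) * x * (d : G)⁻¹ ∈ (P : Subgroup G) := hd' ⟨x, hx⟩ (mem_zpowers x)
  have hdO : (d : G) * x * (d : G)⁻¹ ∈ O := by
    rcases hP _ hdx with e | e | e | e | e | e | e | e <;> rw [e]
    · exact absurd (conj_eq_one_iff.1 e) (invol_ne_one hxo)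
    exacts [hall.1, (hcycA hall.1).1, (hcycA hall.1).2, htO, hall.2, (hcycT hall.2).1, (hcycT hall.2).2]
  obtain ⟨l, hl, he⟩ := hdO
  refine ⟨(d : G)⁻¹ * l, mul_mem (inv_mem d.2) (mem_inf.1 hl).1, ?_⟩
  have he' : l * t * l⁻¹ = (d : G) * x * (d : G)⁻¹ := he
  rw [show (d : G)⁻¹ * l * t * ((d : G)⁻¹ * l)⁻¹ = (d : G)⁻¹ * (l * t * l⁻¹) * d by group, he']
  group

end Cx

end CfsgLib.PslMax
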