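import Cfsg.Agent.Lib.Bender.Consumers.PslMax
import Cfsg.Agent.Lib.Invol.TwoTimesAlt.Four
import Cfsg.Agent.Lib.GW.RankOne
import Cfsg.Agent.Lib.Invol.StronglyEmbedded
import Cfsg.Agent.Lib.Coprime.Core

/-!
# Maximality of involution centralizers of type `2 × PSL(2, q)`
-/

set_option autoImplicit false
set_option linter.unusedSectionVars false
set_option linter.style.haveILetI false

namespace CfsgLib.PslMax

open Subgroup CfsgLib.Invol

universe u

variable {G : Type u} [Group G] [Finite G] {F : Type} [Field F] [Fintype F] {t : G} {E E₀ : Subgroup G}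

namespace Cx

variable {φ : E₀ ≃* Matrix.ProjectiveSpecialLinearGroup (Fin 2) F}
variable (h : Cx t E E₀ φ)
include h

/-- A normal subgroup of odd order of `E₀` is trivial. -/
theorem odd_eq_bot (h3 : Fintype.card F ≠ 3) (K : Subgroup G) (hK : K ≤ E₀) (hodd : Odd (Nat.card K))
    (hn : ∀ e ∈ E₀, ∀ k ∈ K, e * k * e⁻¹ ∈ K) : K = ⊥ := by
  haveI := (h.psl_simple h3).1
  haveI : IsSimpleGroup E₀ := φ.isSimpleGroup
  haveI : (K.subgroupOf E₀).Normal := ⟨fun k hk e => hn e e.2 k hk⟩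
  rcases (inferInstance : (K.subgroupOf E₀).Normal).eq_bot_or_eq_top with e | e
  · rw [subgroupOf_eq_bot] at e
    exact le_bot_iff.1 fun x hx => e.le_bot ⟨hx, hK hx⟩
  · exfalso
    have hE : E₀ ≤ K := subgroupOf_eq_top.1 e
    obtain ⟨P, a, b, n, -, -, ha, -, -, -, -, hao, -⟩ := h.exists_frame h3
    have := orderOf_dvd_natCard K (hE ha)
    rw [hao] at this
    exact Nat.not_even_iff_odd.2 hodd (even_iff_two_dvd.2 this)

/-- If `t` is isolated in `M`, then `M = C(t)`. -/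
theorem le_of_isolated [IsSimpleGroup G] (hna : ¬ IsMulCommutative G) (h3 : Fintype.card F ≠ 3)
    {M : Subgroup G} (hM : centralizer ({t} : Set G) ≤ M)
    (hiso : ∀ g ∈ M, Commute t (g * t * g⁻¹) → g * t * g⁻¹ = t) : M ≤ centralizer ({t} : Set G) := by
  haveI : Fact (Nat.Prime 2) := ⟨Nat.prime_two⟩
  set C := centralizer ({t} : Set G) with hC
  have htM : t ∈ M := hM h.tC
  have ht2 : t * t = 1 := invol_mul_self h.ht
  have hz : IsZCentral (⟨t, htM⟩ : M) := zstar ⟨by rw [← Subgroup.orderOf_coe]; exact h.ht, fun g hg =>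
    Subtype.ext (hiso g g.2 (congrArg Subtype.val hg.eq))⟩
  set N := Cfsg.pPrimeCore 2 M with hN
  haveI hNn : N.Normal := by
    rw [hN, CfsgLib.Coprime.pPrimeCore_eq_piCore Nat.prime_two]; exact inferInstance
  set W := N.map M.subtype with hW
  have hWM : W ≤ M := map_subtype_le _
  have hWodd : Odd (Nat.card W) := by
    rw [hW, card_map_of_injective M.subtype_injective]
    exact Nat.not_even_iff_odd.1 fun e =>
      CfsgLib.Coprime.pPrimeCore_not_dvd Nat.prime_two (even_iff_two_dvd.1 e)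
  have hWo : ∀ w ∈ W, Odd (orderOf w) := fun w hw => hWodd.of_dvd_nat (orderOf_dvd_natCard _ hw)
  have hWn : ∀ m ∈ M, ∀ w ∈ W, m * w * m⁻¹ ∈ W := by
    rintro m hm _ ⟨w, hw, rfl⟩
    exact ⟨⟨m, hm⟩ * w * (⟨m, hm⟩)⁻¹, hNn.conj_mem w hw _, rfl⟩
  obtain ⟨hs, hpna⟩ := h.psl_simple h3
  obtain ⟨P, a, b, n, htP, hPC, ha, hb, -, haP, hbP, hao, hbo, hab, -, -, -, hinvE⟩ := h.exists_frame h3
  -- `W` meets `C` trivially
  have hWC : ∀ w ∈ W, w ∈ C → w = 1 := by
    intro w hw hwC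
    have hK : W ⊓ E₀ = ⊥ := h.odd_eq_bot h3 _ inf_le_right
      (hWodd.of_dvd_nat (card_dvd_of_le inf_le_left)) fun e he k hk =>
      mem_inf.2 ⟨hWn e (hM (h.le_C (h.hE₀E he))) k (mem_inf.1 hk).1, mul_mem (mul_mem he (mem_inf.1 hk).2) (E₀.inv_mem he)⟩
    have hwE := h.mem_E_of_odd hwC (hWo w hw)
    have : w ∈ E ⊓ centralizer (E₀ : Set G) := by
      refine mem_inf.2 ⟨hwE, mem_centralizer_iff.2 fun e he => ?_⟩
      have h1 : w * e * w⁻¹ * e⁻¹ ∈ W ⊓ E₀ := by
        refine mem_inf.2 ⟨?_, mul_mem (h.hn w hwE e he) (inv_mem he)⟩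
        rw [show w * e * w⁻¹ * e⁻¹ = w * (e * w⁻¹ * e⁻¹) by group]
        exact mul_mem hw (hWn e (hM (h.le_C (h.hE₀E he))) _ (inv_mem hw))
      rw [hK, mem_bot, mul_inv_eq_one, mul_inv_eq_iff_eq_mul] at h1
      exact h1.symm
    rwa [h.hCE, mem_bot] at this
  -- `t` inverts `W`
  have hfp : ∀ w ∈ W, t * w = w * t → w = 1 := fun w hw e =>
    hWC w hw (mem_centralizer_singleton_iff.2 e.symm)
  obtain ⟨τ, hτ⟩ : ∃ τ : W →* W, ∀ w : W, ((τ w : W) : G) = t * w * t⁻¹ :=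
    ⟨MonoidHom.mk' (fun w => ⟨_, hWn t htM w w.2⟩) fun x y => Subtype.ext (by
      show t * (x * y : G) * t⁻¹ = t * x * t⁻¹ * (t * y * t⁻¹); group), fun _ => rfl⟩
  have hfp' : MonoidHom.FixedPointFree τ := fun w hw => Subtype.ext (hfp w w.2 (by
    have := congrArg Subtype.val hw
    rw [hτ] at this
    exact mul_inv_eq_iff_eq_mul.1 this))
  have hinv' : Function.Involutive τ := fun w => Subtype.ext (by
    rw [hτ, hτ, show t * (t * (w : G) * t⁻¹) * t⁻¹ = t * t * w * (t * t)⁻¹ by group, ht2]; simp)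
  have hWab : ∀ x ∈ W, ∀ y ∈ W, x * y = y * x := fun x hx y hy =>
    congrArg Subtype.val (MonoidHom.FixedPointFree.commute_all_of_involutive hfp' hinv' ⟨x, hx⟩ ⟨y, hy⟩).eq
  have hWinv : ∀ w ∈ W, t * w * t⁻¹ = w⁻¹ := fun w hw => by
    have := congrArg Subtype.val (congrFun (hfp'.coe_eq_inv_of_involutive hinv') ⟨w, hw⟩)
    simpa [hτ] using this
  -- an involution of `E₀` centralizes no nontrivial element of `W`
  have hkey : ∀ v ∈ E₀, orderOf v = 2 → ∀ w ∈ W, v * w = w * v → w = 1 := by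
    intro v hv hvo w hw hvw
    have hvC : v ∈ C := h.le_C (h.hE₀E hv)
    obtain ⟨g, hgc, hgne⟩ : ∃ g : G, Commute t (g * t * g⁻¹) ∧ g * t * g⁻¹ ≠ t := by
      have hni := CfsgLib.ReeType.not_isolated_of_simple hna t
      unfold Cfsg.IsIsolatedInvolution at hni
      push Not at hni
      exact hni h.ht
    obtain ⟨m, -, hm⟩ := h.fused h3 (M := ⊤) le_top (mem_top g) hgc hgne (mem_top v) hvo
    set s := m⁻¹ * t * m with hsdef
    set K := (W ⊓ centralizer ({v} : Set G)).map (MulAut.conj m⁻¹).toMonoidHom with hK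
    have hKmem : ∀ k : G, k ∈ K ↔ m * k * m⁻¹ ∈ W ∧ m * k * m⁻¹ ∈ centralizer ({v} : Set G) := by
      intro k
      rw [hK, mem_map_equiv, mem_inf]
      simp
    have hKC : K ≤ C := fun k hk => mem_centralizer_singleton_iff.2 (by
      have h1 := mem_centralizer_singleton_iff.1 ((hKmem k).1 hk).2
      rw [← hm] at h1
      calc k * t = m⁻¹ * (m * k * m⁻¹ * (m * t * m⁻¹)) * m := by group
        _ = t * k := by rw [h1]; group)
    have hvt : v ≠ t := fun e => h.not_mem (e ▸ h.hE₀E hv)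
    have hso : orderOf s = 2 := by
      have := invol_conj h.ht m⁻¹
      rwa [inv_inv] at this
    have hsC : s ∈ C := mem_centralizer_singleton_iff.2 (by
      have h1 := h.comm hvC
      rw [← hm] at h1
      calc s * t = m⁻¹ * (t * (m * t * m⁻¹)) * m := by rw [hsdef]; group
        _ = t * s := by rw [← h1, hsdef]; group)
    have hst : s ≠ t := fun e => hvt (by
      rw [← hm]
      nth_rewrite 1 [← e]
      rw [hsdef]; group)
    obtain ⟨s₀, hs₀E, hs₀⟩ : ∃ s₀ ∈ E, s₀ = s ∨ s₀ = t * s := by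
      rcases h.split s hsC with h1 | h1
      exacts [⟨s, h1, Or.inl rfl⟩, ⟨t * s, h1, Or.inr rfl⟩]
    have hs₀o : orderOf s₀ = 2 := by
      rcases hs₀ with rfl | rfl
      · exact hso
      · refine orderOf_eq_prime ?_ fun e => hst ((mul_eq_one_iff_eq_inv.1 e).trans (invol_inv hso)).symm
        rw [pow_two, mul_assoc, ← mul_assoc s, h.comm hsC, mul_assoc t s s, invol_mul_self hso, mul_one, ht2]
    have hs₀E₀ := hinvE s₀ hs₀E hs₀o
    have hKinv : ∀ k ∈ K, s₀ * k * s₀⁻¹ = k⁻¹ := by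
      intro k hk
      have h1 : s * k * s⁻¹ = k⁻¹ := by
        have := hWinv _ ((hKmem k).1 hk).1
        calc s * k * s⁻¹ = m⁻¹ * (t * (m * k * m⁻¹) * t⁻¹) * m := by rw [hsdef]; group
          _ = k⁻¹ := by rw [this]; group
      rcases hs₀ with rfl | rfl
      · exact h1
      · rw [show t * s * k * (t * s)⁻¹ = t * (s * k * s⁻¹) * t⁻¹ by group, h1, ← h.comm (inv_mem (hKC hk)),
          mul_inv_cancel_right]
    have hKodd : Odd (Nat.card K) := by
      rw [hK, card_map_of_injective (MulAut.conj m⁻¹).injective]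
      exact hWodd.of_dvd_nat (card_dvd_of_le inf_le_left)
    have hKE : K ≤ E₀ := by
      intro k hk
      have ho : Odd (orderOf k) := hKodd.of_dvd_nat (orderOf_dvd_natCard _ hk)
      refine zpowers_le.2 ?_ (mem_zpowers_sq ho)
      have hkE := h.mem_E_of_odd (hKC hk) ho
      have h2 : s₀ * k⁻¹ * s₀⁻¹ = k := by rw [hKinv _ (inv_mem hk), inv_inv]
      have h4 := mul_mem hs₀E₀ (h.hn _ (inv_mem hkE) _ (inv_mem hs₀E₀))
      rw [show s₀ * (k⁻¹ * s₀⁻¹ * k⁻¹⁻¹) = s₀ * k⁻¹ * s₀⁻¹ * k by group, h2] at h4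
      exact h4
    obtain ⟨ι, hι⟩ : ∃ ι : E₀ →* Matrix.ProjectiveSpecialLinearGroup (Fin 2) F, ι = φ.toMonoidHom :=
      ⟨_, rfl⟩
    obtain ⟨r, hr, hrs, hrc⟩ : ∃ r, orderOf r = 2 ∧ φ ⟨s₀, hs₀E₀⟩ ≠ r ∧
        φ ⟨s₀, hs₀E₀⟩ * r = r * φ ⟨s₀, hs₀E₀⟩ := by
      obtain ⟨Q, hQ⟩ := (IsPGroup.of_card (n := 1) (by
        rw [Nat.card_zpowers, MulEquiv.orderOf_eq, ← Subgroup.orderOf_coe, pow_one]; exact hs₀o) :
        IsPGroup 2 (zpowers (φ ⟨s₀, hs₀E₀⟩))).exists_le_sylow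
      obtain ⟨x, y, hx, hy, hxo, hyo, hxy, -⟩ := exists_four_mem h.hodd Q
      by_cases e : φ ⟨s₀, hs₀E₀⟩ = x
      · exact ⟨y, hyo, e ▸ hxy, h.psl_sylow Q _ (hQ (mem_zpowers _)) _ hy⟩
      · exact ⟨x, hxo, e, h.psl_sylow Q _ (hQ (mem_zpowers _)) _ hx⟩
    have hA : (K.subgroupOf E₀).map φ.toMonoidHom = ⊥ := by
      refine eq_bot_of_inverted h.hodd (by rw [MulEquiv.orderOf_eq, ← Subgroup.orderOf_coe]; exact hs₀o)
        hr hrs hrc _ ?_ ?_ ?_ ?_
      · rwa [card_map_of_injective (f := φ.toMonoidHom) φ.injective, Nat.card_congr (subgroupOfEquivOfLe hKE).toEquiv]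
      · rintro _ ⟨x, hx, rfl⟩ _ ⟨y, hy, rfl⟩
        rw [← map_mul, ← map_mul]
        refine congrArg _ (Subtype.ext ?_)
        have : m * (x : G) * m⁻¹ * (m * (y : G) * m⁻¹) = m * (y : G) * m⁻¹ * (m * (x : G) * m⁻¹) :=
          hWab _ ((hKmem _).1 hx).1 _ ((hKmem _).1 hy).1
        calc (x : G) * y = m⁻¹ * (m * x * m⁻¹ * (m * y * m⁻¹)) * m := by group
          _ = y * x := by rw [this]; group
      · rintro _ ⟨x, hx, rfl⟩
        show φ _ * φ x * (φ _)⁻¹ = (φ x)⁻¹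
        rw [← map_inv, ← map_inv, ← map_mul, ← map_mul]
        exact congrArg φ (Subtype.ext (hKinv x hx))
      · rintro w hw _ ⟨x, hx, rfl⟩
        obtain ⟨w, rfl⟩ := φ.surjective w
        refine ⟨w * x * w⁻¹, ?_, by simp⟩
        rw [← map_mul, ← map_mul] at hw
        have hwC : (w : G) ∈ C := h.le_C (h.hE₀E w.2)
        have hws : (w : G) * s = s * w := by
          have h1 : (w : G) * s₀ = s₀ * w := congrArg Subtype.val (φ.injective hw)
          rcases hs₀ with rfl | rfl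
          · exact h1
          · refine mul_left_cancel (a := t) ?_
            calc t * ((w : G) * s) = (w : G) * (t * s) := by rw [← mul_assoc, ← h.comm hwC, mul_assoc]
              _ = t * (s * w) := by rw [h1, mul_assoc]
        have hvC' : m * (w : G) * m⁻¹ ∈ centralizer ({v} : Set G) := mem_centralizer_singleton_iff.2 (by
          rw [← hm]
          calc m * (w : G) * m⁻¹ * (m * t * m⁻¹) = m * ((w : G) * t) * m⁻¹ := by group
            _ = m * t * m⁻¹ * (m * w * m⁻¹) := by rw [h.comm hwC]; group)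
        have htC' : m * (w : G) * m⁻¹ ∈ C := mem_centralizer_singleton_iff.2 (by
          calc m * (w : G) * m⁻¹ * t = m * ((w : G) * s) * m⁻¹ := by rw [hsdef]; group
            _ = t * (m * w * m⁻¹) := by rw [hws, hsdef]; group)
        rw [SetLike.mem_coe, mem_subgroupOf, hKmem]
        obtain ⟨h1, h2⟩ := (hKmem _).1 hx
        simp only [Subgroup.coe_mul, InvMemClass.coe_inv]
        rw [show m * ((w : G) * (x : G) * (w : G)⁻¹) * m⁻¹ =
          (m * w * m⁻¹) * (m * x * m⁻¹) * (m * w * m⁻¹)⁻¹ by group]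
        exact ⟨hWn _ (hM htC') _ h1, mul_mem (mul_mem hvC' h2) (inv_mem hvC')⟩
    rw [Subgroup.map_eq_bot_iff_of_injective _ (f := φ.toMonoidHom) φ.injective, subgroupOf_eq_bot] at hA
    have hw' : m⁻¹ * w * m ∈ K := (hKmem _).2 (by
      rw [show m * (m⁻¹ * w * m) * m⁻¹ = w by group]
      exact ⟨hw, mem_centralizer_singleton_iff.2 hvw.symm⟩)
    have h1 : m⁻¹ * w * m = 1 := hA.le_bot ⟨hw', hKE hw'⟩
    rw [← show m * (m⁻¹ * w * m) * m⁻¹ = w by group, h1]
    group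
  -- the four-group kills `W`
  have habM : a ∈ M ∧ b ∈ M := ⟨hM (h.le_C (h.hE₀E ha)), hM (h.le_C (h.hE₀E hb))⟩
  have hinv1 : ∀ v ∈ E₀, orderOf v = 2 → ∀ w ∈ W, v * w * v⁻¹ = w⁻¹ := fun v hv hvo =>
    CfsgLib.ReeType.inverts_of_no_fixed hWab (fun w hw => hWn v (hM (h.le_C (h.hE₀E hv))) w hw)
      (fun w _ => by rw [invol_mul_self hvo, one_mul, mul_one]) (hkey v hv hvo)
  have habo : orderOf (a * b) = 2 := by
    refine orderOf_eq_prime ?_ fun e => hab ((mul_eq_one_iff_eq_inv.1 e).trans (invol_inv hbo))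
    rw [pow_two, mul_assoc, ← mul_assoc b, h.hab P b hbP a haP, mul_assoc a b b, invol_mul_self hbo,
      mul_one, invol_mul_self hao]
  have hWbot : ∀ w ∈ W, w = 1 := fun w hw => by
    refine hkey (a * b) (mul_mem ha hb) habo w hw ?_
    have h1 := hinv1 a ha hao (w⁻¹) (inv_mem hw)
    have h2 := hinv1 b hb hbo w hw
    rw [inv_inv] at h1
    calc a * b * w = a * (b * w * b⁻¹) * a⁻¹ * (a * b) := by group
      _ = w * (a * b) := by rw [h2, h1]
  -- hence `t` is central in `M`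
  intro g hg
  have h1 := hWbot _ (⟨_, hz ⟨g, hg⟩, rfl⟩ : _ ∈ W)
  simp only [coe_subtype, Subgroup.coe_mul, InvMemClass.coe_inv] at h1
  rw [mem_centralizer_singleton_iff]
  rw [mul_inv_eq_one, mul_inv_eq_iff_eq_mul] at h1
  exact h1.symm

/-- The centralizer of `t` is maximal for `q ≠ 3`. -/
theorem isCoatom [IsSimpleGroup G] (hF : CfsgLib.Bender.Full.FullStatement.{u})
    (hna : ¬ IsMulCommutative G) (h3 : Fintype.card F ≠ 3) :
    IsCoatom (centralizer ({t} : Set G)) := by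
  constructor
  · intro htop
    have hc : t ∈ center G := mem_center_iff.2 fun g => h.comm (htop ▸ mem_top g)
    rcases (inferInstance : (center G).Normal).eq_bot_or_eq_top with e | e
    · rw [e, mem_bot] at hc
      exact invol_ne_one h.ht hc
    · exact hna ⟨⟨fun a b => mem_center_iff.1 (e ▸ mem_top b : b ∈ center G) a⟩⟩
  intro M hM
  by_contra htop
  obtain ⟨g, hg, hgc, hgne⟩ : ∃ g ∈ M, Commute t (g * t * g⁻¹) ∧ g * t * g⁻¹ ≠ t := by
    by_contra hcon
    push Not at hcon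
    exact hM.not_ge (h.le_of_isolated hna h3 hM.le hcon)
  have hfus : ∀ x ∈ M, orderOf x = 2 → ∃ m ∈ M, m * t * m⁻¹ = x := fun x hx hxo =>
    h.fused h3 hM.le hg hgc hgne hx hxo
  have heven : Even (Nat.card M) := by
    rw [even_iff_two_dvd, ← h.ht]
    exact orderOf_dvd_natCard _ (hM.le h.tC)
  have hSE : Cfsg.IsStronglyEmbedded M := by
    refine (CfsgLib.Invol.stronglyEmbedded_iff htop heven).2 fun x hx hxo k hk => ?_
    obtain ⟨m, hm, hmx⟩ := hfus x hx hxo
    obtain ⟨l, hl, hlx⟩ := hfus _ hk (invol_conj hxo k)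
    have hC : l⁻¹ * k * m ∈ centralizer ({t} : Set G) := mem_centralizer_singleton_iff.2 (by
      calc l⁻¹ * k * m * t = l⁻¹ * (k * (m * t * m⁻¹) * k⁻¹) * k * m := by group
        _ = t * (l⁻¹ * k * m) := by rw [hmx, ← hlx]; group)
    have := mul_mem (mul_mem hl (hM.le hC)) (inv_mem hm)
    rwa [show l * (l⁻¹ * k * m) * m⁻¹ = k by group] at this
  obtain ⟨P, a, b, n, -, -, ha, -, -, haP, hbP, hao, hbo, hab, -⟩ := h.exists_frame h3
  haveI : Group.IsSolvable M := CfsgLib.Bender.Full.isSolvable_of_pair hF hSE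
    ⟨a, b, hao, hbo, hab, h.hab P a haP b hbP⟩
  have hE₀M : E₀ ≤ M := fun x hx => hM.le (h.le_C (h.hE₀E hx))
  haveI : Group.IsSolvable E₀ := solvable_of_solvable_injective (f := inclusion hE₀M) (inclusion_injective hE₀M)
  obtain ⟨hs, hpna⟩ := h.psl_simple h3
  haveI : Group.IsSolvable (Matrix.ProjectiveSpecialLinearGroup (Fin 2) F) :=
    solvable_of_surjective (f := φ.toMonoidHom) φ.surjective
  haveI := hs
  exact hpna ⟨⟨IsSimpleGroup.comm_iff_isSolvable.2 inferInstance⟩⟩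

end Cx

end CfsgLib.PslMax
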