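import Cfsg.Agent.Lib.Bender.Consumers.PslMaxMain
import Cfsg.Agent.Lib.Invol.TwoTimesAlt.Four
import Cfsg.Agent.Lib.GW.RankOne
import Cfsg.Agent.Lib.GW.FieldPart
import Cfsg.Agent.Lib.Classical.SLBasic

/-!
# The case `q = 3` and the maximality theorem
-/

set_option autoImplicit false
set_option linter.unusedSectionVars false
set_option linter.style.haveILetI false

namespace CfsgLib.PslMax

open Subgroup CfsgLib.Invol

universe u

theorem perm_four_cent : ∀ σ : Equiv.Perm (Fin 4),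
    σ * (Equiv.swap 0 1 * Equiv.swap 2 3) = Equiv.swap 0 1 * Equiv.swap 2 3 * σ →
    σ * (Equiv.swap 0 2 * Equiv.swap 1 3) = Equiv.swap 0 2 * Equiv.swap 1 3 * σ →
    σ = 1 ∨ σ = Equiv.swap 0 1 * Equiv.swap 2 3 ∨ σ = Equiv.swap 0 2 * Equiv.swap 1 3 ∨
      σ = Equiv.swap 0 1 * Equiv.swap 2 3 * (Equiv.swap 0 2 * Equiv.swap 1 3) := by decide +kernel

theorem perm_four_normal : ∀ σ : Equiv.Perm (Fin 4), ∀ v ∈ [1, Equiv.swap 0 1 * Equiv.swap 2 3,
    Equiv.swap 0 2 * Equiv.swap 1 3, Equiv.swap 0 1 * Equiv.swap 2 3 * (Equiv.swap 0 2 * Equiv.swap 1 3)],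
    σ * v * σ⁻¹ ∈ [1, Equiv.swap 0 1 * Equiv.swap 2 3,
      Equiv.swap 0 2 * Equiv.swap 1 3, Equiv.swap 0 1 * Equiv.swap 2 3 * (Equiv.swap 0 2 * Equiv.swap 1 3)] := by
  decide +kernel

/-- The Sylow 2-subgroups of the symmetric group of degree four are not abelian. -/
theorem perm_four_sylow (Q : Sylow 2 (Equiv.Perm (Fin 4)))
    (hab : ∀ a ∈ (Q : Subgroup (Equiv.Perm (Fin 4))), ∀ b ∈ (Q : Subgroup (Equiv.Perm (Fin 4))), a * b = b * a) :
    False := by
  haveI : Fact (Nat.Prime 2) := ⟨Nat.prime_two⟩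
  set v : Equiv.Perm (Fin 4) := Equiv.swap 0 1 * Equiv.swap 2 3 with hv
  set w : Equiv.Perm (Fin 4) := Equiv.swap 0 2 * Equiv.swap 1 3 with hw
  set N := normalClosure ({v, w} : Set (Equiv.Perm (Fin 4))) with hN
  set V : Subgroup (Equiv.Perm (Fin 4)) :=
    { carrier := {σ | σ ∈ [1, v, w, v * w]}
      mul_mem' := fun {a b} ha hb => by
        revert ha hb
        revert a b
        decide +kernel
      one_mem' := by simp
      inv_mem' := fun {a} ha => by
        revert ha
        revert a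
        decide +kernel } with hV
  haveI : V.Normal := ⟨fun x hx σ => perm_four_normal σ x hx⟩
  have hVp : IsPGroup 2 V := fun x => ⟨1, Subtype.ext (by
    have := x.2
    revert this
    show (x : Equiv.Perm (Fin 4)) ∈ [1, v, w, v * w] → (x : Equiv.Perm (Fin 4)) ^ (2 ^ 1) = 1
    generalize (x : Equiv.Perm (Fin 4)) = y
    revert y
    decide +kernel)⟩
  have hle := hVp.le_sylow_of_normal Q
  have hvQ : v ∈ (Q : Subgroup (Equiv.Perm (Fin 4))) := hle (show v ∈ [1, v, w, v * w] by simp)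
  have hwQ : w ∈ (Q : Subgroup (Equiv.Perm (Fin 4))) := hle (show w ∈ [1, v, w, v * w] by simp)
  have hQV : (Q : Subgroup (Equiv.Perm (Fin 4))) ≤ V := fun σ hσ => by
    rcases perm_four_cent σ (hab σ hσ v hvQ) (hab σ hσ w hwQ) with e | e | e | e <;>
      show σ ∈ [1, v, w, v * w] <;> simp [e, ← hv, ← hw]
  have h1 := card_le_of_le hQV
  have h8 : Nat.card (Q : Subgroup (Equiv.Perm (Fin 4))) = 8 := by
    rw [Sylow.card_eq_multiplicity, Nat.card_eq_fintype_card, Fintype.card_perm, Fintype.card_fin]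
    have e : Nat.factorial 4 = 2 ^ 3 * 3 := by decide
    rw [e, Nat.factorization_mul (by norm_num) (by norm_num), Nat.Prime.factorization_pow Nat.prime_two]
    simp [Nat.Prime.factorization Nat.prime_three]
  have h4 : Nat.card V ≤ 4 := by
    have e : (V : Set (Equiv.Perm (Fin 4))) = (([1, v, w, v * w] : List (Equiv.Perm (Fin 4))).toFinset : Set _) := by
      ext σ
      simp only [List.coe_toFinset]
      rfl
    rw [← SetLike.coe_sort_coe, Nat.card_coe_set_eq, e, Set.ncard_coe_finset]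
    exact List.toFinset_card_le _
  omega

variable {G : Type u} [Group G] [Finite G] [IsSimpleGroup G] {F : Type} [Field F] [Fintype F] {t : G} {E E₀ : Subgroup G}

/-- The centralizer cannot be `2 × A₄`. -/
theorem false_of_three {φ : E₀ ≃* Matrix.ProjectiveSpecialLinearGroup (Fin 2) F} (h : Cx t E E₀ φ)
    (hna : ¬ IsMulCommutative G) (h3 : Fintype.card F = 3) (S : Sylow 2 G)
    (hprod : Cfsg.IsInternalDirectProduct (zpowers t) E (centralizer ({t} : Set G))) : False := by
  haveI : Fact (Nat.Prime 2) := ⟨Nat.prime_two⟩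
  have hcard : Nat.card (Matrix.ProjectiveSpecialLinearGroup (Fin 2) F) = 12 := by
    have hm := CfsgLib.Classical.card_psl_mul (F := F) (n := 2) (by norm_num)
    rw [Fin.prod_univ_two, h3] at hm
    norm_num at hm
    change Nat.card (Matrix.ProjectiveSpecialLinearGroup (Fin 2) F) = 12
    omega
  obtain ⟨H, ⟨eH⟩⟩ := CfsgLib.Perm.Dickson.exists_a4_odd (F := F) (by rw [Nat.card_eq_fintype_card, h3]; decide)
  have hA : Nat.card H = 12 := by rw [Nat.card_congr eH.toEquiv]; exact CfsgLib.Invol.TwoTimesAlt.alt_four_card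
  have hHtop : H = ⊤ := Subgroup.eq_top_of_card_eq H (hA.trans hcard.symm)
  let e0 : E₀ ≃* alternatingGroup (Fin 4) :=
    φ.trans (((MulEquiv.subgroupCongr hHtop).trans Subgroup.topEquiv).symm.trans eH)
  obtain ⟨hi, hs⟩ := CfsgLib.Perm.Groups.AltAut.conjNormal_bijective (Ω := Fin 4) (by decide) (by decide)
  let eA : MulAut E₀ ≃* Equiv.Perm (Fin 4) := (MulAut.congr e0).trans (MulEquiv.ofBijective _ ⟨hi, hs⟩).symm
  obtain ⟨ρ, hρ⟩ : ∃ ρ : E →* MulAut E₀, ∀ (y : E) (z : E₀), ((ρ y z : E₀) : G) = y * z * (y : G)⁻¹ :=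
    ⟨MonoidHom.mk' (fun y =>
      { toFun := fun z => ⟨_, h.hn y y.2 z z.2⟩
        invFun := fun z => ⟨_, h.hn (y : G)⁻¹ (inv_mem y.2) z z.2⟩
        left_inv := fun z => Subtype.ext (by group)
        right_inv := fun z => Subtype.ext (by group)
        map_mul' := fun z w => Subtype.ext (by simp only [Subgroup.coe_mul]; group) })
      fun y y' => MulEquiv.ext fun z => Subtype.ext (by
        simp only [MulAut.mul_apply]
        show (y * y' : G) * z * (y * y' : G)⁻¹ = y * (y' * z * (y' : G)⁻¹) * (y : G)⁻¹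
        group), fun _ _ => rfl⟩
  have hρi : Function.Injective (eA.toMonoidHom.comp ρ) := by
    refine eA.injective.comp ((injective_iff_map_eq_one ρ).2 fun y hy => ?_)
    refine Subtype.ext ?_
    have : (y : G) ∈ E ⊓ centralizer (E₀ : Set G) := mem_inf.2 ⟨y.2, mem_centralizer_iff.2 fun z hz => by
      have h1 := hρ y ⟨z, hz⟩
      rw [hy] at h1
      simp only [MulAut.one_apply] at h1
      exact (mul_inv_eq_iff_eq_mul.1 h1.symm).symm⟩
    rwa [h.hCE, mem_bot] at this
  have hE0 : Nat.card E₀ = 12 := by rw [Nat.card_congr φ.toEquiv, hcard]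
  have hEle : Nat.card E ≤ 24 := (Nat.card_le_card_of_injective _ hρi).trans (by
    rw [Nat.card_eq_fintype_card, Fintype.card_perm, Fintype.card_fin]; decide)
  have hdvd : 12 ∣ Nat.card E := hE0 ▸ card_dvd_of_le h.hE₀E
  have hE : E₀ = E := by
    refine Subgroup.eq_of_le_of_card_ge h.hE₀E ?_
    rw [hE0]
    by_contra hcon
    have hE24 : Nat.card E = 24 := by
      obtain ⟨k, hk⟩ := hdvd
      omega
    have hb : Function.Bijective (eA.toMonoidHom.comp ρ) :=
      hρi.bijective_of_nat_card_le (by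
        rw [hE24, Nat.card_eq_fintype_card, Fintype.card_perm, Fintype.card_fin]; decide)
    let eP : E ≃* Equiv.Perm (Fin 4) := MulEquiv.ofBijective _ hb
    obtain ⟨Q⟩ : Nonempty (Sylow 2 (Equiv.Perm (Fin 4))) := inferInstance
    refine perm_four_sylow Q fun a ha b hb' => ?_
    obtain ⟨P, hP⟩ := (Q.isPGroup'.map (E.subtype.comp eP.symm.toMonoidHom)).exists_le_sylow
    have h1 := h.hab P _ (hP ⟨a, ha, rfl⟩) _ (hP ⟨b, hb', rfl⟩)
    have h2 : eP.symm a * eP.symm b = eP.symm b * eP.symm a := Subtype.ext h1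
    rw [← map_mul, ← map_mul] at h2
    exact eP.symm.injective h2
  obtain ⟨P, hP⟩ := (IsPGroup.of_card (n := 1) (by rw [Nat.card_zpowers, h.ht, pow_one]) :
    IsPGroup 2 (zpowers t)).exists_le_sylow
  have hJ : Cfsg.IsTwoCentralInvolution t :=
    ⟨h.ht, P, hP (mem_zpowers t), fun x hx => h.hab P x hx t (hP (mem_zpowers t))⟩
  have hsol : ¬ Group.IsSolvable G := fun hsol => hna ⟨⟨IsSimpleGroup.comm_iff_isSolvable.2 hsol⟩⟩
  obtain ⟨ι, P', hH⟩ := CfsgLib.Invol.TwoTimesAlt.exists_hyp hJ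
    ((MulEquiv.subgroupCongr hE.symm).trans e0) hprod (fun N hN hidx => by
      rcases hN.eq_bot_or_eq_top with e | e
      · rw [e, index_bot] at hidx
        exact hsol (haveI : IsMulCommutative G := (isCyclic_of_prime_card (p := 2) hidx).isMulCommutative
          absurd this hna)
      · rw [e, index_top] at hidx; omega)
  obtain ⟨K, iK, iK', hK8, ⟨eG⟩⟩ := CfsgLib.Invol.TwoTimesAlt.psl_of_four hH hsol
  haveI : IsSimpleGroup (MulAut (Matrix.ProjectiveSpecialLinearGroup (Fin 2) K)) := eG.symm.isSimpleGroup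
  -- inner automorphisms are a normal subgroup missing the field automorphism
  set I := (MulAut.conj : Matrix.ProjectiveSpecialLinearGroup (Fin 2) K →* _).range with hI
  haveI : I.Normal := ⟨by
    rintro _ ⟨x, rfl⟩ β
    exact ⟨β x, MulEquiv.ext fun y => by simp⟩⟩
  haveI : Fact (Nat.Prime 2) := ⟨Nat.prime_two⟩
  rcases (inferInstance : I.Normal).eq_bot_or_eq_top with e | e
  · have h1 : ∀ x : Matrix.ProjectiveSpecialLinearGroup (Fin 2) K, x = 1 := fun x =>
      CfsgLib.AutPSL.conj_injective le_rfl (by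
        rw [map_one]
        exact (Subgroup.eq_bot_iff_forall I).1 e _ ⟨x, rfl⟩)
    have hne := (CfsgLib.Perm.Dickson.psl_simple_noncomm (F := K) (by rw [Nat.card_eq_fintype_card, hK8]; norm_num)).2
    exact hne ⟨⟨fun a b => by rw [h1 a, h1 b]⟩⟩
  · -- every automorphism would have trivial field part
    obtain ⟨p, hp⟩ := CharP.exists K
    have hp2 : p = 2 := by
      obtain ⟨n, hpp, hn⟩ := FiniteField.card K p
      rw [hK8] at hn
      exact (Nat.prime_dvd_prime_iff_eq hpp Nat.prime_two).1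
        (hpp.dvd_of_dvd_pow (show p ∣ 2 ^ 3 by rw [show (2:ℕ) ^ 3 = 8 by norm_num, hn]; exact dvd_pow_self p n.pos.ne'))
    subst hp2
    obtain ⟨σ, hσ⟩ : ∃ σ : RingAut K, ∀ x, σ x = x ^ 2 :=
      ⟨frobeniusEquiv K 2, fun x => frobeniusEquiv_apply K 2 x⟩
    obtain ⟨x, hx⟩ : CfsgLib.AutPSL.ind (1 : GL (Fin 2) K) σ ∈ I := e ▸ mem_top _
    obtain ⟨s, rfl⟩ := QuotientGroup.mk'_surjective _ x
    have h1 : CfsgLib.GW.fieldPartHom (CfsgLib.AutPSL.ind (1 : GL (Fin 2) K) σ) = 1 := by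
      rw [← hx, CfsgLib.GW.mem_ker_fieldPartHom]
      exact ⟨_, CfsgLib.AutPSL.conj_proj s⟩
    rw [CfsgLib.GW.fieldPartHom_ind] at h1
    have hfix : ∀ x : K, x ^ 2 = x := fun x => by rw [← hσ, h1]; rfl
    have h2 : ∀ x : K, x = 0 ∨ x = 1 := fun x => by
      rcases mul_eq_zero.1 (show x * (x - 1) = 0 by linear_combination hfix x) with e | e
      exacts [Or.inl e, Or.inr (sub_eq_zero.1 e)]
    classical
    have := Fintype.card_le_of_surjective (fun b : Bool => if b then (1 : K) else 0) (fun x => by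
      rcases h2 x with e | e
      exacts [⟨false, by simp [e]⟩, ⟨true, by simp [e]⟩])
    rw [hK8, Fintype.card_bool] at this
    omega

/-- The statement of S1245 from Bender's theorem. -/
theorem isCoatom_of_statement (hF : CfsgLib.Bender.Full.FullStatement.{u})
    (hna : ¬ IsMulCommutative G) (S : Sylow 2 G) (hS : IsMulCommutative (S : Subgroup G))
    (ht : orderOf t = 2)
    (hprod : Cfsg.IsInternalDirectProduct (zpowers t) E (centralizer ({t} : Set G)))
    (hE₀E : E₀ ≤ E) (hE₀n : (E₀.subgroupOf E).Normal) (hodd : Odd (Fintype.card F))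
    (φ : E₀ ≃* Matrix.ProjectiveSpecialLinearGroup (Fin 2) F)
    (hCE : E ⊓ centralizer (E₀ : Set G) = ⊥) : IsCoatom (centralizer ({t} : Set G)) := by
  haveI : Fact (Nat.Prime 2) := ⟨Nat.prime_two⟩
  obtain ⟨htC, hEC, hcomm, hdisj, hsup⟩ := hprod
  have hpC := (⟨htC, hEC, hcomm, hdisj, hsup⟩ :
    Cfsg.IsInternalDirectProduct (zpowers t) E (centralizer ({t} : Set G)))
  have hnot : t ∉ E := fun he => by
    have : t ∈ zpowers t ⊓ E := ⟨mem_zpowers t, he⟩
    rw [hdisj, mem_bot] at this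
    exact invol_ne_one ht this
  have h : Cx t E E₀ φ := by
    refine ⟨ht, hodd, hEC, hnot, fun c hc => ?_, hE₀E,
      fun e he x hx => hE₀n.conj_mem ⟨x, hE₀E hx⟩ hx ⟨e, he⟩, hCE, fun P a ha b hb => ?_⟩
    · obtain ⟨j, hj, e, he, rfl⟩ := CfsgLib.Coprime.mem_sup_exists (N := zpowers t) (H := E)
        (fun b hb => centralizer_le_normalizer _ (mem_centralizer_iff.2 fun a ha => hcomm a ha b hb))
        (show c ∈ zpowers t ⊔ E from hsup.symm ▸ hc)
      rcases CfsgLib.ProdFusion.mem_zpowers_invol (invol_mul_self ht) hj with rfl | rfl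
      · exact Or.inl (by rwa [one_mul])
      · exact Or.inr (by rwa [← mul_assoc, invol_mul_self ht, one_mul])
    · obtain ⟨g, hg⟩ := CfsgLib.Invol.exists_conj_le_sylow P.isPGroup' S
      have h1 := congrArg Subtype.val (hS.is_comm.comm (⟨_, hg a ha⟩ : (S : Subgroup G)) ⟨_, hg b hb⟩)
      refine mul_left_cancel (a := g) (mul_right_cancel (b := g⁻¹) ?_)
      simpa [mul_assoc] using h1
  by_cases h3 : Fintype.card F = 3
  · exact (false_of_three h hna h3 S hpC).elim
  · exact h.isCoatom hF hna h3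

end CfsgLib.PslMax
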